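import Groth.Agent.Lib.QuotTan26.Transfer
import Groth.Prelude.Def_KLin
import Groth.Agent.Lib.ModDesc.Approx
import Groth.Agent.Lib.QCoh.DevissageSummands

/-!
# First order deformations of a submodule and homomorphisms to the quotient
-/

set_option autoImplicit false
set_option backward.isDefEq.respectTransparency false
universe u

noncomputable section

open CategoryTheory CategoryTheory.Limits AlgebraicGeometry Opposite TopologicalSpace
open GrothLib.QCoh (stalkLin stalkLin_comp stalkLin_germ stalkLin_injective)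

namespace GrothLib.QuotTan26

theorem stalkLin_add {X : Scheme.{u}} {M N : X.Modules} (a b : M ⟶ N) (x : X) (e : M.presheaf.stalk x) :
    stalkLin (a + b) x e = stalkLin a x e + stalkLin b x e :=
  LinearMap.congr_fun (congrArg ModuleCat.Hom.hom ((OX.stalk x).map_add (f := a) (g := b))) e

theorem stalkLin_neg {X : Scheme.{u}} {M N : X.Modules} (a : M ⟶ N) (x : X) (e : M.presheaf.stalk x) :
    stalkLin (-a) x e = -stalkLin a x e :=
  LinearMap.congr_fun (congrArg ModuleCat.Hom.hom ((OX.stalk x).map_neg (f := a))) e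

theorem stalkLin_zero {X : Scheme.{u}} {M N : X.Modules} (x : X) (e : M.presheaf.stalk x) :
    stalkLin (0 : M ⟶ N) x e = 0 :=
  LinearMap.congr_fun (congrArg ModuleCat.Hom.hom ((OX.stalk x).map_zero M N)) e

theorem stalkLin_smulModΓ {X : Scheme.{u}} (M : X.Modules) (r : Coh.Γtop X) (x : X) (e : M.presheaf.stalk x) :
    stalkLin (Formal.smulModΓ M r) x e = X.presheaf.germ ⊤ x trivial r • e := by
  obtain ⟨U, hx, m, rfl⟩ := TopCat.Presheaf.exists_germ_eq M.presheaf e
  rw [stalkLin_germ, KLin.smulModΓ_app_apply, Mero.germ_smul, TopCat.Presheaf.germ_res_apply]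

variable {k : Type u} [Field k] {X : Scheme.{u}} (x : X ⟶ Spec (CommRingCat.of k)) (H : X.Modules)

/-- The module on the fibre. -/
abbrev E0 : (PicF.XT x (P (k := k))).Modules := FGA.ET x H P

variable (K₀ : Subobject (E0 x H))

/-- The source of graphs. -/
abbrev S0 : (PicF.XT x (P (k := k))).Modules := Subobject.underlying.obj K₀ ⊞ E0 x H

/-- The retraction to the point. -/
def prW : TWk (k := k) k ⟶ P := Over.homMk (TWk (k := k) k).hom (Category.comp_id _)

theorem fst_pr (z' : PicF.XT x (TWk (k := k) k)) :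
    pullback.fst x (P (k := k)).hom (PicF.XTmap x prW z') = pullback.fst x (TWk (k := k) k).hom z' :=
  fst_XTmap x prW z'

theorem pr_jz (z : PicF.XT x (P (k := k))) : PicF.XTmap x prW (jz x z) = z := by
  refine (ConcreteCategory.bijective_of_isIso (pullback.fst x (P (k := k)).hom).base).1 ?_
  exact (fst_pr x (jz x z)).trans (fst_jz x z _ rfl)

/-- The map `(t, b) ↦ t + εb`. -/
def gam : (Scheme.Modules.pullback (PicF.XTmap x prW)).obj (S0 x H K₀) ⟶ FGA.ET x H (TWk k) :=
  (Scheme.Modules.pullback (PicF.XTmap x prW)).map (biprod.fst ≫ K₀.arrow) ≫ (FGA.ETiso x H prW).hom +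
    ((Scheme.Modules.pullback (PicF.XTmap x prW)).map biprod.snd ≫ (FGA.ETiso x H prW).hom) ≫
      Formal.smulModΓ (FGA.ET x H (TWk k)) (PicTan26.eps x k (1 : k))

theorem gam_val (z : PicF.XT x P) (z' : PicF.XT x (TWk (k := k) k)) (hz : PicF.XTmap x prW z' = z)
    (y : X) (h : pullback.fst x (TWk (k := k) k).hom z' = y) (t : (S0 x H K₀).presheaf.stalk z)
    (a b : H.presheaf.stalk y)
    (ha : stalkLin (biprod.fst ≫ K₀.arrow) z t = theta x H P z y ((fst_of_eq x prW z' z hz).trans h) a)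
    (hb : stalkLin biprod.snd z t = theta x H P z y ((fst_of_eq x prW z' z hz).trans h) b) :
    stalkLin (gam x H K₀) z' (uT (PicF.XTmap x prW) (S0 x H K₀) z' z hz t) =
      theta x H (TWk k) z' y h a + ee x (1 : k) z' • theta x H (TWk k) z' y h b := by
  rw [gam, stalkLin_add, stalkLin_comp, stalkLin_comp, stalkLin_comp, uT_natural, uT_natural, ha, hb,
    stalkLin_smulModΓ]
  exact congrArg₂ (fun p q => p + ee x (1 : k) z' • q) (etaT_theta x H prW z' z hz y h a)
    (etaT_theta x H prW z' z hz y h b)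

/-- The point of the base. -/
abbrev bp (z : PicF.XT x (P (k := k))) : X := pullback.fst x (P (k := k)).hom z

/-- The stalk at the base point. -/
abbrev th (z : PicF.XT x (P (k := k))) : H.presheaf.stalk (bp x z) →+ (E0 x H).presheaf.stalk z :=
  theta x H P z _ rfl

/-- The pairs in the graph of a homomorphism. -/
def Cond (φ : Subobject.underlying.obj K₀ ⟶ cokernel K₀.arrow) (z : PicF.XT x P)
    (a b : H.presheaf.stalk (bp x z)) : Prop :=
  ∃ t, stalkLin K₀.arrow z t = th x H z a ∧ stalkLin φ z t + stalkLin (cokernel.π K₀.arrow) z (th x H z b) = 0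

/-- `K` is the deformation of `K₀` given by `φ`. -/
def Rel (φ : Subobject.underlying.obj K₀ ⟶ cokernel K₀.arrow) (K : Subobject (FGA.ET x H (TWk (k := k) k))) : Prop :=
  ∀ z a b, sec x H z (bp x z) rfl a b ∈ sK K (jz x z) ↔ Cond x H K₀ φ z a b

theorem eq_of_rel {φ : Subobject.underlying.obj K₀ ⟶ cokernel K₀.arrow}
    {K K' : Subobject (FGA.ET x H (TWk (k := k) k))} (hK : Rel x H K₀ φ K) (hK' : Rel x H K₀ φ K') : K = K' := by
  refine eq_of_sK_eq fun z' => ?_
  obtain ⟨z, rfl⟩ := (PicF.XTmap x (ptW (k := k) k)).surjective z'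
  ext s
  obtain ⟨a, b, rfl⟩ := exists_sec_eq x H z (bp x z) rfl s
  exact (hK z a b).trans (hK' z a b).symm

/-- The image of a deformation on the fibre is the stalk of the submodule. -/
theorem exists_mem_eta {W : Type u} [AddCommGroup W] [Module k W] [Module kᵐᵒᵖ W] [IsCentralScalar k W]
    {K : Subobject (FGA.ET x H (TWk (k := k) W))} (hres : FGA.quotPull x H (ptW W) K = K₀) (z : PicF.XT x P)
    (v : (E0 x H).presheaf.stalk z) (hv : v ∈ sK K₀ z) :
    ∃ s ∈ sK K (PicF.XTmap x (ptW W) z), eta x H (ptW W) z s = v := by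
  rw [← hres, sK_quotPull] at hv
  induction hv using Submodule.span_induction with
  | mem v hv =>
    obtain ⟨s, hs, rfl⟩ := hv
    exact ⟨s, hs, rfl⟩
  | zero => exact ⟨0, zero_mem _, map_zero _⟩
  | add a b _ _ ha hb =>
    obtain ⟨s, hs, rfl⟩ := ha
    obtain ⟨t, ht, rfl⟩ := hb
    exact ⟨s + t, add_mem hs ht, map_add _ _ _⟩
  | smul c a _ ha =>
    obtain ⟨s, hs, rfl⟩ := ha
    obtain ⟨c₀, rfl⟩ := (bijective_iota_P x z (bp x z) rfl).2 c
    refine ⟨iota x (TWk W) (PicF.XTmap x (ptW W) z) (bp x z) (fst_XTmap x (ptW W) z) c₀ • s,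
      Submodule.smul_mem _ _ hs, ?_⟩
    rw [eta_smul, stalkMap_iota x (ptW W) z (bp x z) rfl]

theorem eta_mem {W : Type u} [AddCommGroup W] [Module k W] [Module kᵐᵒᵖ W] [IsCentralScalar k W]
    {K : Subobject (FGA.ET x H (TWk (k := k) W))} (hres : FGA.quotPull x H (ptW W) K = K₀) (z : PicF.XT x P)
    {s : (FGA.ET x H (TWk (k := k) W)).presheaf.stalk (PicF.XTmap x (ptW W) z)}
    (hs : s ∈ sK K (PicF.XTmap x (ptW W) z)) : eta x H (ptW W) z s ∈ sK K₀ z := by
  rw [← hres, sK_quotPull]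
  exact Submodule.subset_span ⟨s, hs, rfl⟩

section FromK

variable {K : Subobject (FGA.ET x H (TWk (k := k) k))} (hres : FGA.quotPull x H (ptW k) K = K₀)

include hres in
theorem exists_partner (z : PicF.XT x P) (a : H.presheaf.stalk (bp x z)) (ha : th x H z a ∈ sK K₀ z) :
    ∃ b, sec x H z (bp x z) rfl a b ∈ sK K (jz x z) := by
  obtain ⟨s, hs, he⟩ := exists_mem_eta x H K₀ hres z _ ha
  obtain ⟨a', b, rfl⟩ := exists_sec_eq x H z (bp x z) rfl s
  rw [eta_sec] at he
  exact ⟨b, (bijective_theta_P x H z (bp x z) rfl).1 he ▸ hs⟩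

include hres in
theorem sec_zero_mem (z : PicF.XT x P) (a : H.presheaf.stalk (bp x z)) (ha : th x H z a ∈ sK K₀ z) :
    sec x H z (bp x z) rfl 0 a ∈ sK K (jz x z) := by
  obtain ⟨b, hb⟩ := exists_partner x H K₀ hres z a ha
  rw [← ee_smul_sec x H z (bp x z) rfl a b]
  exact Submodule.smul_mem _ _ hb

include hres in
/-- The flatness of the quotient. -/
theorem mem_of_sec_zero_mem (hflat : FlatMod.IsFlatOver (proj x) (cokernel K.arrow)) (z : PicF.XT x P)
    (b : H.presheaf.stalk (bp x z)) (hb : sec x H z (bp x z) rfl 0 b ∈ sK K (jz x z)) : th x H z b ∈ sK K₀ z := by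
  have h0 : ee x (1 : k) (jz x z) • stalkLin (cokernel.π K.arrow) (jz x z) (sec x H z (bp x z) rfl b 0) = 0 := by
    rw [← map_smul, ee_smul_sec, stalkLin_π_eq_zero_iff]
    exact hb
  obtain ⟨m', hm'⟩ := exists_eq_ee_smul x z hflat h0
  obtain ⟨s, rfl⟩ := stalkLin_surjective (cokernel.π K.arrow) (jz x z) m'
  obtain ⟨c, d, rfl⟩ := exists_sec_eq x H z (bp x z) rfl s
  rw [← map_smul, ee_smul_sec, ← sub_eq_zero, ← map_sub, stalkLin_π_eq_zero_iff] at hm'
  have h1 := eta_mem x H K₀ hres z hm'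
  erw [map_sub, eta_sec, eta_sec, map_zero, sub_zero] at h1
  exact h1

/-- The graph of a deformation. -/
def graphK (K : Subobject (FGA.ET x H (TWk (k := k) k))) :
    S0 x H K₀ ⟶ (Scheme.Modules.pushforward (PicF.XTmap x prW)).obj (cokernel K.arrow) :=
  (Scheme.Modules.pullbackPushforwardAdjunction (PicF.XTmap x prW)).homEquiv _ _ (gam x H K₀ ≫ cokernel.π K.arrow)

theorem stalkLin_graphK_eq_zero_iff (z : PicF.XT x P) (t : (S0 x H K₀).presheaf.stalk z) :
    stalkLin (graphK x H K₀ K) z t = 0 ↔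
      stalkLin (gam x H K₀ ≫ cokernel.π K.arrow) (jz x z)
        (uT (PicF.XTmap x prW) (S0 x H K₀) (jz x z) z (pr_jz x z) t) = 0 := by
  obtain ⟨U, hzU, m, rfl⟩ := TopCat.Presheaf.exists_germ_eq (S0 x H K₀).presheaf t
  rw [uT_germ, stalkLin_germ]
  erw [stalkLin_germ (gam x H K₀ ≫ cokernel.π K.arrow)]
  have happ : ∀ (V : (PicF.XT x (P (k := k))).Opens) (m : Γ(S0 x H K₀, V)),
      (graphK x H K₀ K).app V m = (gam x H K₀ ≫ cokernel.π K.arrow).app (PicF.XTmap x prW ⁻¹ᵁ V)
        (OX.pullSec (PicF.XTmap x prW) (S0 x H K₀) V m) := fun V m => by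
    rw [graphK, Adjunction.homEquiv_unit]
    rfl
  rw [happ]
  constructor
  · intro h
    obtain ⟨V, hzV, i₁, i₂, e⟩ := TopCat.Presheaf.germ_eq
      ((Scheme.Modules.pushforward (PicF.XTmap x prW)).obj (cokernel K.arrow)).presheaf z hzU hzU _ 0
      (h.trans (map_zero _).symm)
    rw [map_zero] at e
    refine ((cokernel K.arrow).presheaf.germ_res_apply
      (homOfLE ((PicF.XTmap x prW).preimage_mono i₁.le)) (jz x z)
      (show PicF.XTmap x prW (jz x z) ∈ V by rw [pr_jz]; exact hzV) _).symm.trans ?_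
    exact (congrArg _ e).trans (map_zero _)
  · intro h
    obtain ⟨W, hzW, i₁, i₂, e⟩ := TopCat.Presheaf.germ_eq (cokernel K.arrow).presheaf (jz x z) _ _ _ 0
      (h.trans (map_zero ((cokernel K.arrow).presheaf.germ (PicF.XTmap x prW ⁻¹ᵁ U) (jz x z)
        (show PicF.XTmap x prW (jz x z) ∈ U by rw [pr_jz]; exact hzU)).hom).symm)
    rw [map_zero] at e
    let j := PicF.XTmap x (ptW (k := k) k)
    have hle : PicF.XTmap x prW ⁻¹ᵁ (U ⊓ j ⁻¹ᵁ W) ≤ W := fun w hw => by
      obtain ⟨z₁, rfl⟩ := j.surjective w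
      have h2 : PicF.XTmap x prW (jz x z₁) ∈ j ⁻¹ᵁ W := hw.2
      rw [pr_jz] at h2
      exact h2
    refine (((Scheme.Modules.pushforward (PicF.XTmap x prW)).obj (cokernel K.arrow)).presheaf.germ_res_apply
      (homOfLE (inf_le_left : U ⊓ j ⁻¹ᵁ W ≤ U)) z ⟨hzU, hzW⟩ _).symm.trans ?_
    refine (congrArg _ ?_).trans (map_zero _)
    refine Eq.trans ?_ ((congrArg ((cokernel K.arrow).presheaf.map (homOfLE hle).op) e).trans (map_zero _))
    exact (ConcreteCategory.congr_hom ((cokernel K.arrow).presheaf.map_comp i₁.op (homOfLE hle).op) _)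

include hres in
/-- A deformation gives a homomorphism. -/
theorem exists_rel (hflat : FlatMod.IsFlatOver (proj x) (cokernel K.arrow)) : ∃ φ, Rel x H K₀ φ K := by
  let G := kernel (graphK x H K₀ K)
  let ι := kernel.ι (graphK x H K₀ K)
  have hG : ∀ (z : PicF.XT x P) (t : (S0 x H K₀).presheaf.stalk z) (a b : H.presheaf.stalk (bp x z)),
      stalkLin (biprod.fst ≫ K₀.arrow) z t = th x H z a → stalkLin biprod.snd z t = th x H z b →
      ((∃ u, stalkLin ι z u = t) ↔ sec x H z (bp x z) rfl a b ∈ sK K (jz x z)) := by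
    intro z t a b ha hb
    have h1 := stalkLin_graphK_eq_zero_iff x H K₀ (K := K) z t
    rw [stalkLin_comp (gam x H K₀), gam_val x H K₀ z (jz x z) (pr_jz x z) (bp x z) (fst_jz x z _ rfl) t a b ha hb,
      stalkLin_π_eq_zero_iff] at h1
    refine Iff.trans ⟨?_, ?_⟩ h1
    · rintro ⟨u, rfl⟩
      rw [← stalkLin_comp, kernel.condition, stalkLin_zero]
    · intro h
      have hS : (ShortComplex.mk ι (graphK x H K₀ K) (kernel.condition _)).Exact := ShortComplex.exact_kernel _
      exact (ShortComplex.moduleCat_exact_iff _).1 (hS.map (OX.stalk z)) t h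
  have hpair : ∀ (z : PicF.XT x P) (t₀ : (Subobject.underlying.obj K₀).presheaf.stalk z)
      (w : (E0 x H).presheaf.stalk z), ∃ t : (S0 x H K₀).presheaf.stalk z,
        stalkLin biprod.fst z t = t₀ ∧ stalkLin biprod.snd z t = w := by
    intro z t₀ w
    refine ⟨stalkLin biprod.inl z t₀ + stalkLin biprod.inr z w, ?_, ?_⟩
    · rw [map_add, ← stalkLin_comp, ← stalkLin_comp, biprod.inl_fst, biprod.inr_fst, stalkLin_zero, add_zero]
      exact LinearMap.congr_fun (congrArg ModuleCat.Hom.hom ((OX.stalk z).map_id _)) t₀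
    · rw [map_add, ← stalkLin_comp, ← stalkLin_comp, biprod.inl_snd, biprod.inr_snd, stalkLin_zero, zero_add]
      exact LinearMap.congr_fun (congrArg ModuleCat.Hom.hom ((OX.stalk z).map_id _)) w
  let p₁ : G ⟶ Subobject.underlying.obj K₀ := ι ≫ biprod.fst
  haveI : Epi p₁ := by
    rw [OX.epi_iff]
    intro z
    rw [ModuleCat.epi_iff_surjective]
    intro (t₀ : (Subobject.underlying.obj K₀).presheaf.stalk z)
    obtain ⟨a, ha⟩ := (bijective_theta_P x H z (bp x z) rfl).2 (stalkLin K₀.arrow z t₀)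
    obtain ⟨b, hb⟩ := exists_partner x H K₀ hres z a ⟨t₀, ha.symm⟩
    obtain ⟨t, ht1, ht2⟩ := hpair z t₀ (th x H z b)
    obtain ⟨u, hu⟩ := (hG z t a b (by rw [stalkLin_comp, ht1]; exact ha.symm) ht2).2 hb
    exact ⟨u, by show stalkLin (ι ≫ biprod.fst) z u = t₀; rw [stalkLin_comp, hu, ht1]⟩
  let ψ : G ⟶ cokernel K₀.arrow := -(ι ≫ biprod.snd ≫ cokernel.π K₀.arrow)
  have hψ : kernel.ι p₁ ≫ ψ = 0 := by
    refine hom_eq_of_stalk fun z u => ?_
    rw [stalkLin_comp, stalkLin_zero]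
    let t := stalkLin ι z (stalkLin (kernel.ι p₁) z u)
    have hf : stalkLin biprod.fst z t = 0 := by
      show stalkLin biprod.fst z (stalkLin ι z _) = 0
      rw [← stalkLin_comp, ← stalkLin_comp, kernel.condition, stalkLin_zero]
    obtain ⟨b, hb⟩ := (bijective_theta_P x H z (bp x z) rfl).2 (stalkLin biprod.snd z t)
    have hm := (hG z t 0 b (by rw [stalkLin_comp, hf, map_zero, map_zero]) hb.symm).1 ⟨_, rfl⟩
    have := (stalkLin_π_eq_zero_iff K₀ z _).2 (mem_of_sec_zero_mem x H K₀ hres hflat z b hm)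
    show stalkLin (-(ι ≫ biprod.snd ≫ cokernel.π K₀.arrow)) z _ = 0
    rw [stalkLin_neg, stalkLin_comp, stalkLin_comp, neg_eq_zero]
    refine Eq.trans ?_ this
    exact congrArg (stalkLin (cokernel.π K₀.arrow) z) hb.symm
  obtain ⟨φ, hφ⟩ : ∃ φ : Subobject.underlying.obj K₀ ⟶ cokernel K₀.arrow, p₁ ≫ φ = ψ :=
    ⟨Abelian.epiDesc p₁ ψ hψ, Abelian.comp_epiDesc p₁ ψ hψ⟩
  have hval : ∀ (z : PicF.XT x P) (t₀ : (Subobject.underlying.obj K₀).presheaf.stalk z)
      (a b : H.presheaf.stalk (bp x z)), stalkLin K₀.arrow z t₀ = th x H z a →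
      sec x H z (bp x z) rfl a b ∈ sK K (jz x z) →
      stalkLin φ z t₀ + stalkLin (cokernel.π K₀.arrow) z (th x H z b) = 0 := by
    intro z t₀ a b ha hb
    obtain ⟨t, ht1, ht2⟩ := hpair z t₀ (th x H z b)
    obtain ⟨u, hu⟩ := (hG z t a b (by rw [stalkLin_comp, ht1]; exact ha) ht2).2 hb
    have h1 : stalkLin p₁ z u = t₀ := by
      show stalkLin (ι ≫ biprod.fst) z u = t₀
      rw [stalkLin_comp, hu, ht1]
    rw [← h1, ← stalkLin_comp, hφ]
    show stalkLin (-(ι ≫ biprod.snd ≫ cokernel.π K₀.arrow)) z u + _ = 0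
    rw [stalkLin_neg, stalkLin_comp, stalkLin_comp, hu, ht2, neg_add_cancel]
  refine ⟨φ, fun z a b => ⟨fun h => ?_, ?_⟩⟩
  · have ha := eta_mem x H K₀ hres z h
    erw [eta_sec] at ha
    obtain ⟨t₀, ht₀⟩ := ha
    exact ⟨t₀, ht₀, hval z t₀ a b ht₀ h⟩
  · rintro ⟨t₀, ha, he⟩
    obtain ⟨b₁, hb₁⟩ := exists_partner x H K₀ hres z a ⟨t₀, ha⟩
    have h2 : stalkLin (cokernel.π K₀.arrow) z (th x H z (b - b₁)) = 0 := by
      rw [map_sub, map_sub, sub_eq_zero]
      exact add_left_cancel (he.trans (hval z t₀ a b₁ ha hb₁).symm)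
    rw [show sec x H z (bp x z) rfl a b = sec x H z (bp x z) rfl a b₁ + sec x H z (bp x z) rfl 0 (b - b₁) by
      rw [← sec_add, add_zero, add_sub_cancel]]
    exact add_mem hb₁ (sec_zero_mem x H K₀ hres z _ ((stalkLin_π_eq_zero_iff K₀ z _).1 h2))

end FromK

section FromHom

variable (φ : Subobject.underlying.obj K₀ ⟶ cokernel K₀.arrow)

/-- The graph of a homomorphism. -/
abbrev graphH : (PicF.XT x (P (k := k))).Modules := kernel (biprod.desc φ (cokernel.π K₀.arrow))

/-- The deformation of a homomorphism. -/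
def ofHom : Subobject (FGA.ET x H (TWk (k := k) k)) :=
  imageSubobject ((Scheme.Modules.pullback (PicF.XTmap x prW)).map (kernel.ι (biprod.desc φ (cokernel.π K₀.arrow))) ≫
    gam x H K₀)

theorem rel_ofHom : Rel x H K₀ φ (ofHom x H K₀ φ) := by
  intro z a b
  let ι := kernel.ι (biprod.desc φ (cokernel.π K₀.arrow))
  have hdesc : biprod.desc φ (cokernel.π K₀.arrow) = biprod.fst ≫ φ + biprod.snd ≫ cokernel.π K₀.arrow :=
    biprod.hom_ext' _ _ (by simp) (by simp)
  rw [ofHom, sK_imageSubobject]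
  constructor
  · rintro ⟨w, hw⟩
    suffices H' : ∃ a' b', Cond x H K₀ φ z a' b' ∧
        stalkLin ((Scheme.Modules.pullback (PicF.XTmap x prW)).map ι ≫ gam x H K₀) (jz x z) w =
          sec x H z (bp x z) rfl a' b' by
      obtain ⟨a', b', hc, he⟩ := H'
      have h0 : sec x H z (bp x z) rfl (a - a') (b - b') = 0 := by
        have := hw.symm.trans he
        rw [← sub_eq_zero] at this
        rw [show sec x H z (bp x z) rfl (a - a') (b - b') =
          sec x H z (bp x z) rfl a b - sec x H z (bp x z) rfl a' b' by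
          rw [eq_sub_iff_add_eq, ← sec_add, sub_add_cancel, sub_add_cancel]]
        exact this
      obtain ⟨h1, h2⟩ := sec_eq_zero x H z (bp x z) rfl h0
      rwa [sub_eq_zero.1 h1, sub_eq_zero.1 h2]
    clear hw
    have hspan : w ∈ Submodule.span ((PicF.XT x (TWk (k := k) k)).presheaf.stalk (jz x z))
        (Set.range (uT (PicF.XTmap x prW) (graphH x H K₀ φ) (jz x z) z (pr_jz x z))) := by
      have key : ∀ (z₁ : PicF.XT x (P (k := k))) (hz₁ : PicF.XTmap x prW (jz x z) = z₁),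
          w ∈ Submodule.span ((PicF.XT x (TWk (k := k) k)).presheaf.stalk (jz x z))
            (Set.range (uT (PicF.XTmap x prW) (graphH x H K₀ φ) (jz x z) z₁ hz₁)) := by
        rintro _ rfl
        refine Submodule.span_mono ?_ ((span_range_uS (PicF.XTmap x prW) (graphH x H K₀ φ) (jz x z)).ge trivial)
        rintro _ ⟨t, rfl⟩
        exact ⟨t, uT_rfl _ _ _ t⟩
      exact key z (pr_jz x z)
    induction hspan using Submodule.span_induction with
    | mem w hw =>
      obtain ⟨u, rfl⟩ := hw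
      obtain ⟨a', ha'⟩ := (bijective_theta_P x H z (bp x z) rfl).2 (stalkLin (biprod.fst ≫ K₀.arrow) z (stalkLin ι z u))
      obtain ⟨b', hb'⟩ := (bijective_theta_P x H z (bp x z) rfl).2 (stalkLin biprod.snd z (stalkLin ι z u))
      refine ⟨a', b', ⟨stalkLin biprod.fst z (stalkLin ι z u), by rw [← stalkLin_comp]; exact ha'.symm, ?_⟩, ?_⟩
      · rw [show th x H z b' = _ from hb']
        rw [← stalkLin_comp biprod.fst φ, ← stalkLin_comp biprod.snd, ← stalkLin_add, ← hdesc, ← stalkLin_comp,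
          kernel.condition, stalkLin_zero]
      · rw [stalkLin_comp, uT_natural]
        exact gam_val x H K₀ z (jz x z) (pr_jz x z) (bp x z) (fst_jz x z _ rfl) _ a' b' ha'.symm hb'.symm
    | zero =>
      exact ⟨0, 0, ⟨0, by rw [map_zero, map_zero], by rw [map_zero, map_zero, map_zero, add_zero]⟩,
        by rw [map_zero, sec, map_zero, smul_zero, add_zero]⟩
    | add p q _ _ hp hq =>
      obtain ⟨a₁, b₁, ⟨t₁, h₁, h₁'⟩, e₁⟩ := hp
      obtain ⟨a₂, b₂, ⟨t₂, h₂, h₂'⟩, e₂⟩ := hq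
      refine ⟨a₁ + a₂, b₁ + b₂, ⟨t₁ + t₂, by rw [map_add, map_add, h₁, h₂], ?_⟩, by rw [map_add, e₁, e₂, sec_add]⟩
      rw [map_add, map_add, map_add, add_add_add_comm, h₁', h₂', add_zero]
    | smul c p _ hp =>
      obtain ⟨a₁, b₁, ⟨t₁, h₁, h₁'⟩, e₁⟩ := hp
      obtain ⟨c₀, d, rfl⟩ := exists_iota_decomp x z (bp x z) rfl c
      let i₀ := iota x P z (bp x z) rfl
      refine ⟨c₀ • a₁, c₀ • b₁ + d • a₁, ⟨i₀ c₀ • t₁, by rw [map_smul, h₁]; exact (theta_smul x H P z _ rfl c₀ a₁).symm, ?_⟩, ?_⟩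
      · have hq : stalkLin (cokernel.π K₀.arrow) z (th x H z a₁) = 0 :=
          (stalkLin_π_eq_zero_iff K₀ z _).2 ⟨t₁, h₁⟩
        rw [map_smul, map_add, map_add, theta_smul, theta_smul, map_smul, map_smul, hq, smul_zero, add_zero,
          ← smul_add, h₁', smul_zero]
      · rw [map_smul, e₁, add_smul, mul_smul, ee_smul_sec, iota_smul_sec, iota_smul_sec, smul_zero, ← sec_add,
          add_zero]
  · rintro ⟨t₀, ha, he⟩
    let t : (S0 x H K₀).presheaf.stalk z := stalkLin biprod.inl z t₀ + stalkLin biprod.inr z (th x H z b)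
    have ht1 : stalkLin biprod.fst z t = t₀ := by
      rw [map_add, ← stalkLin_comp, ← stalkLin_comp, biprod.inl_fst, biprod.inr_fst, stalkLin_zero, add_zero]
      exact LinearMap.congr_fun (congrArg ModuleCat.Hom.hom ((OX.stalk z).map_id _)) t₀
    have ht2 : stalkLin biprod.snd z t = th x H z b := by
      rw [map_add, ← stalkLin_comp, ← stalkLin_comp, biprod.inl_snd, biprod.inr_snd, stalkLin_zero, zero_add]
      exact LinearMap.congr_fun (congrArg ModuleCat.Hom.hom ((OX.stalk z).map_id _)) _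
    have hS : (ShortComplex.mk ι (biprod.desc φ (cokernel.π K₀.arrow)) (kernel.condition _)).Exact :=
      ShortComplex.exact_kernel _
    obtain ⟨u, hu⟩ := (ShortComplex.moduleCat_exact_iff _).1 (hS.map (OX.stalk z)) t (by
      show stalkLin (biprod.desc φ (cokernel.π K₀.arrow)) z t = 0
      rw [hdesc, stalkLin_add, stalkLin_comp, stalkLin_comp, ht1, ht2, he])
    refine ⟨uT (PicF.XTmap x prW) (graphH x H K₀ φ) (jz x z) z (pr_jz x z) u, ?_⟩
    rw [stalkLin_comp, uT_natural, show stalkLin ι z u = t from hu]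
    exact gam_val x H K₀ z (jz x z) (pr_jz x z) (bp x z) (fst_jz x z _ rfl) t a b
      (by rw [stalkLin_comp, ht1]; exact ha) ht2

theorem exists_cond (z : PicF.XT x P) (a : H.presheaf.stalk (bp x z)) (ha : th x H z a ∈ sK K₀ z) :
    ∃ b, Cond x H K₀ φ z a b := by
  obtain ⟨t₀, ht₀⟩ := ha
  obtain ⟨w, hw⟩ := stalkLin_surjective (cokernel.π K₀.arrow) z (-stalkLin φ z t₀)
  obtain ⟨b, rfl⟩ := (bijective_theta_P x H z (bp x z) rfl).2 w
  exact ⟨b, t₀, ht₀, by rw [hw, add_neg_cancel]⟩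

theorem quotPull_ofHom : FGA.quotPull x H (ptW k) (ofHom x H K₀ φ) = K₀ := by
  refine eq_of_sK_eq fun z => ?_
  rw [sK_quotPull]
  refine le_antisymm (Submodule.span_le.2 ?_) fun v hv => ?_
  · rintro _ ⟨s, hs, rfl⟩
    obtain ⟨a, b, rfl⟩ := exists_sec_eq x H z (bp x z) rfl s
    obtain ⟨t, ht, -⟩ := (rel_ofHom x H K₀ φ z a b).1 hs
    erw [eta_sec]
    exact ⟨t, ht⟩
  · obtain ⟨a, rfl⟩ := (bijective_theta_P x H z (bp x z) rfl).2 v
    obtain ⟨b, hb⟩ := exists_cond x H K₀ φ z a hv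
    exact Submodule.subset_span ⟨_, (rel_ofHom x H K₀ φ z a b).2 hb, eta_sec x H z (bp x z) rfl a b⟩

theorem isFlatOver_ofHom : FlatMod.IsFlatOver (proj x) (cokernel (ofHom x H K₀ φ).arrow) := by
  refine isFlatOver_of_ee x fun z m hm => ?_
  let π := cokernel.π (ofHom x H K₀ φ).arrow
  obtain ⟨s, rfl⟩ := stalkLin_surjective π (jz x z) m
  obtain ⟨a, b, rfl⟩ := exists_sec_eq x H z (bp x z) rfl s
  rw [← map_smul, ee_smul_sec, stalkLin_π_eq_zero_iff, rel_ofHom x H K₀ φ z] at hm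
  obtain ⟨t, ht, he⟩ := hm
  have ht0 : t = 0 := stalkLin_injective K₀.arrow z (by rw [ht, map_zero, map_zero])
  subst ht0
  rw [map_zero, zero_add, stalkLin_π_eq_zero_iff] at he
  obtain ⟨b₀, hb₀⟩ := exists_cond x H K₀ φ z a he
  refine ⟨stalkLin π (jz x z) (sec x H z (bp x z) rfl (b - b₀) 0), ?_⟩
  rw [← map_smul, ee_smul_sec, ← sub_eq_zero, ← map_sub, stalkLin_π_eq_zero_iff]
  have e : sec x H z (bp x z) rfl a b - sec x H z (bp x z) rfl 0 (b - b₀) = sec x H z (bp x z) rfl a b₀ := by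
    rw [sub_eq_iff_eq_add, ← sec_add, add_zero, add_sub_cancel]
  rw [e]
  exact (rel_ofHom x H K₀ φ z a b₀).2 hb₀

theorem isCoh_ofHom [LocallyOfFiniteType x] (hH : Coh.IsCoh H) (hK₀ : Coh.IsCoh (Subobject.underlying.obj K₀))
    (hQ₀ : Coh.IsCoh (cokernel K₀.arrow)) : Coh.IsCoh (cokernel (ofHom x H K₀ φ).arrow) := by
  haveI : IsLocallyNoetherian X := LocallyOfFiniteType.isLocallyNoetherian x
  haveI : IsLocallyNoetherian (PicF.XT x (P (k := k))) :=
    LocallyOfFiniteType.isLocallyNoetherian (pullback.fst x (P (k := k)).hom)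
  haveI : IsNoetherianRing (TrivSqZeroExt k k) :=
    inferInstanceAs (IsNoetherianRing (DualNumber k))
  let f := (Scheme.Modules.pullback (PicF.XTmap x prW)).map (kernel.ι (biprod.desc φ (cokernel.π K₀.arrow))) ≫
    gam x H K₀
  have e : cokernel f ≅ cokernel (ofHom x H K₀ φ).arrow :=
    cokernelIsoOfEq (imageSubobject_arrow_comp f).symm ≪≫ cokernelEpiComp _ _
  refine QCoh.isCoh_of_iso e (QCoh.isCoh_cokernel f (ModDesc.isCoh_pullback _ _ (QCoh.isCoh_kernel _ ?_ hQ₀))
    (ModDesc.isCoh_pullback _ _ hH))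
  exact QCoh.isCoh_biprod' hK₀ (ModDesc.isCoh_pullback _ _ hH)

end FromHom

end GrothLib.QuotTan26
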