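import Groth.Agent.Lib.QuotTan26.Thick

/-!
# Stalks of pulled back modules over the dual numbers
-/

set_option autoImplicit false
set_option backward.isDefEq.respectTransparency false
universe u

noncomputable section

open CategoryTheory CategoryTheory.Limits AlgebraicGeometry Opposite TopologicalSpace
open GrothLib.QCoh (stalkLin stalkLin_comp stalkLin_germ)
open scoped TensorProduct

namespace GrothLib.QuotTan26

theorem exists_eq_smul_of_smul_eq_zero {O M : Type*} [CommRing O] [AddCommGroup M] [Module O M] [Module.Flat O M]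
    {t : O} (ht : t * t = 0) (hann : ∀ a, a * t = 0 → ∃ b, a = b * t) {m : M} (hm : t • m = 0) :
    ∃ m', m = t • m' := by
  let f : O →ₗ[O] O := LinearMap.mulLeft O t
  have hex : Function.Exact f f := fun a => by
    refine ⟨fun ha => ?_, ?_⟩
    · obtain ⟨b, rfl⟩ := hann a (by rw [mul_comm]; exact ha)
      exact ⟨b, mul_comm _ _⟩
    · rintro ⟨b, rfl⟩
      show t * (t * b) = 0
      rw [← mul_assoc, ht, zero_mul]
  obtain ⟨y, hy⟩ := (Module.Flat.rTensor_exact M hex ((1 : O) ⊗ₜ m)).1 (by
    rw [LinearMap.rTensor_tmul, show f 1 = t • (1 : O) from rfl, TensorProduct.smul_tmul, hm, TensorProduct.tmul_zero])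
  refine ⟨TensorProduct.lid _ _ y, ?_⟩
  have e := congrArg (TensorProduct.lid O M) hy
  rw [TensorProduct.lid_tmul, one_smul] at e
  rw [← e]
  clear e hy
  induction y using TensorProduct.induction_on with
  | zero => simp
  | tmul a b => simp [f, mul_smul]
  | add a b ha hb => rw [map_add, map_add, ha, hb, map_add, smul_add]

section RFL

variable {X S : Scheme.{u}} (f : X ⟶ S) (E : X.Modules) (T : Over S)

theorem iota_rfl (z : PicF.XT f T) (r : X.presheaf.stalk (pullback.fst f T.hom z)) :
    iota f T z _ rfl r = ((pullback.fst f T.hom).stalkMap z).hom r := by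
  obtain ⟨U, hy, r, rfl⟩ := TopCat.Presheaf.exists_germ_eq X.presheaf r
  rw [iota_germ, Scheme.Hom.germ_stalkMap_apply]

theorem theta_rfl (z : PicF.XT f T) (t : E.presheaf.stalk (pullback.fst f T.hom z)) :
    theta f E T z _ rfl t = uS (pullback.fst f T.hom) E z t := by
  obtain ⟨W, hW, t, rfl⟩ := TopCat.Presheaf.exists_germ_eq E.presheaf t
  exact theta_germ f E T z _ rfl W hW t

theorem eta_ee_smul {T' : Over S} (g : T' ⟶ T) (z : PicF.XT f T') (c : (PicF.XT f T).presheaf.stalk (PicF.XTmap f g z))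
    (hc : ((PicF.XTmap f g).stalkMap z).hom c = 0) (s : (FGA.ET f E T).presheaf.stalk (PicF.XTmap f g z)) :
    eta f E g z (c • s) = 0 := by
  rw [eta_smul, hc, zero_smul]

end RFL

variable {k : Type u} [Field k] {X : Scheme.{u}} (x : X ⟶ Spec (CommRingCat.of k)) (H : X.Modules)

/-- A scalar as a germ. -/
def cst (y : X) (c : k) : X.presheaf.stalk y := X.presheaf.germ ⊤ y trivial (Coh.toGlobal x c)

theorem bijective_theta_P (z : PicF.XT x P) (y : X) (h : pullback.fst x P.hom z = y) :
    Function.Bijective (theta x H P z y h) := by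
  have hb := bijective_iota_P x z y h
  subst h
  let p := pullback.fst x (P (k := k)).hom
  refine ⟨(injective_iff_map_eq_zero _).2 fun t ht => ?_, fun v => ?_⟩
  · rw [theta_rfl] at ht
    obtain ⟨e, he, heq⟩ := exists_bijective_uS p H z
    letI := (p.stalkMap z).hom.toAlgebra
    have hb' : Function.Bijective (algebraMap (X.presheaf.stalk (p z)) ((PicF.XT x P).presheaf.stalk z)) := by
      refine (congrArg Function.Bijective (funext fun r => ?_)).mp hb
      exact iota_rfl x P z r
    let ψ := LinearEquiv.ofBijective (Algebra.linearMap (X.presheaf.stalk (p z)) ((PicF.XT x P).presheaf.stalk z)) hb'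
    have h1 : ((1 : (PicF.XT x P).presheaf.stalk z) ⊗ₜ[X.presheaf.stalk (p z)] t) = 0 :=
      he.1 ((heq t).trans (ht.trans (map_zero e).symm))
    have h2 := congrArg (fun w => TensorProduct.lid _ _ (ψ.symm.toLinearMap.rTensor (H.presheaf.stalk (p z)) w)) h1
    simp only [LinearMap.rTensor_tmul, map_zero, TensorProduct.lid_tmul] at h2
    rwa [show ψ.symm.toLinearMap 1 = 1 from ψ.symm_apply_eq.2
      (map_one (algebraMap (X.presheaf.stalk (p z)) ((PicF.XT x P).presheaf.stalk z))).symm, one_smul] at h2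
  · have hv : v ∈ Submodule.span ((PicF.XT x P).presheaf.stalk z) (Set.range (theta x H P z _ rfl)) :=
      (exists_theta_span x H P z _ rfl).ge trivial
    induction hv using Submodule.span_induction with
    | mem t ht => exact ht
    | zero => exact ⟨0, map_zero _⟩
    | add a b _ _ ha hb =>
      obtain ⟨a, rfl⟩ := ha
      obtain ⟨b, rfl⟩ := hb
      exact ⟨a + b, map_add _ _ _⟩
    | smul c a _ ha =>
      obtain ⟨a, rfl⟩ := ha
      obtain ⟨c₀, rfl⟩ := hb.2 c
      exact ⟨c₀ • a, theta_smul x H P z _ rfl c₀ a⟩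

section Smul

variable {W : Type u} [AddCommGroup W] [Module k W] [Module kᵐᵒᵖ W] [IsCentralScalar k W]

theorem ee_smul (z : PicF.XT x (TWk W)) (y : X) (h : pullback.fst x (TWk W).hom z = y) (c : k) (v : W) :
    ee x (c • v) z = iota x (TWk W) z y h (cst x y c) * ee x v z := by
  rw [cst, iota_germ]
  show _ = (PicF.XT x (TWk W)).presheaf.germ ⊤ z trivial ((pullback.fst x (TWk W).hom).appTop _) * _
  rw [ee, ee, ← map_mul]
  refine congrArg _ ?_
  refine Eq.trans ?_ (congrArg (· * PicTan26.eps x k v) (PicTan26.appTop_toGlobal x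
    (PicF.XTproj x (TWk W) : _ ⟶ Spec (CommRingCat.of (TrivSqZeroExt k W))) (PicTan26.baseHom (k := k) k W)
    (pullback.fst x (TWk W).hom) pullback.condition c)).symm
  show Coh.toGlobal _ _ = (Coh.toGlobal _ _ * Coh.toGlobal _ _ : Coh.Γtop _)
  rw [← map_mul]
  exact congrArg _ (TrivSqZeroExt.inl_mul_inr c v).symm

end Smul

variable (z : PicF.XT x (P (k := k)))

/-- The point of the thickening over a point of the fibre. -/
abbrev jz : PicF.XT x (TWk (k := k) k) := PicF.XTmap x (ptW k) z

theorem fst_jz (y : X) (h : pullback.fst x P.hom z = y) : pullback.fst x (TWk (k := k) k).hom (jz x z) = y :=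
  (fst_XTmap x (ptW k) z).trans h

variable (y : X) (h : pullback.fst x P.hom z = y)

/-- The element `a + εb`. -/
def sec (a b : H.presheaf.stalk y) : (FGA.ET x H (TWk (k := k) k)).presheaf.stalk (jz x z) :=
  theta x H (TWk k) (jz x z) y (fst_jz x z y h) a +
    ee x (1 : k) (jz x z) • theta x H (TWk k) (jz x z) y (fst_jz x z y h) b

theorem sec_add (a a' b b' : H.presheaf.stalk y) :
    sec x H z y h (a + a') (b + b') = sec x H z y h a b + sec x H z y h a' b' := by
  simp only [sec, map_add, smul_add]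
  abel

theorem ee_smul_sec (a b : H.presheaf.stalk y) :
    ee x (1 : k) (jz x z) • sec x H z y h a b = sec x H z y h 0 a := by
  rw [sec, sec, map_zero, zero_add, smul_add, ← mul_smul, ee_mul]
  erw [zero_smul, add_zero]

theorem iota_smul_sec (r : X.presheaf.stalk y) (a b : H.presheaf.stalk y) :
    iota x (TWk k) (jz x z) y (fst_jz x z y h) r • sec x H z y h a b = sec x H z y h (r • a) (r • b) := by
  rw [sec, sec, smul_add, theta_smul, theta_smul, smul_comm]

theorem eta_sec (a b : H.presheaf.stalk y) :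
    eta x H (ptW k) z (sec x H z y h a b) = theta x H P z y h a := by
  rw [sec, map_add, eta_theta x H (ptW k) z y h, eta_ee_smul x H (TWk k) (ptW k) z _ (stalkMap_ptW_ee x 1 z), add_zero]

theorem exists_eps2_eq (r : (FGA.ET x H (TWk (k := k) k)).presheaf.stalk (jz x z))
    (hr : r ∈ eps2 x H z y h) : ∃ b, r = sec x H z y h 0 b := by
  induction hr using AddSubgroup.closure_induction with
  | mem _ ht =>
    obtain ⟨⟨v, m⟩, rfl⟩ := ht
    refine ⟨cst x y v • m, ?_⟩
    have e := ee_smul x (jz x z) y (fst_jz x z y h) v (1 : k)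
    rw [smul_eq_mul, mul_one] at e
    show ee x v (jz x z) • theta x H (TWk k) (jz x z) y (fst_jz x z y h) m = _
    rw [e, sec, map_zero, zero_add, theta_smul, mul_comm, mul_smul]
  | zero => exact ⟨0, by rw [sec, map_zero, smul_zero, add_zero]⟩
  | add p q _ _ hp hq =>
    obtain ⟨a, rfl⟩ := hp
    obtain ⟨b, rfl⟩ := hq
    exact ⟨a + b, by rw [← sec_add, add_zero]⟩
  | neg p _ hp =>
    obtain ⟨a, rfl⟩ := hp
    exact ⟨-a, by rw [sec, sec, map_zero, map_neg, smul_neg, zero_add, zero_add]⟩

theorem exists_sec_eq (s : (FGA.ET x H (TWk (k := k) k)).presheaf.stalk (jz x z)) :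
    ∃ a b, s = sec x H z y h a b := by
  obtain ⟨a, ha⟩ := exists_theta_add x H z y h s
  obtain ⟨b, hb⟩ := exists_eps2_eq x H z y h _ ha
  refine ⟨a, b, ?_⟩
  rw [sub_eq_iff_eq_add] at hb
  rw [hb, sec, sec, map_zero, zero_add, add_comm]

section Flat

/-- The stalk of `Spec k[ε]`. -/
abbrev proj : PicF.XT x (TWk (k := k) k) ⟶ Spec (CommRingCat.of (TrivSqZeroExt k k)) := PicF.XTproj x (TWk k)

/-- The germ of `ε`. -/
def tt : (Spec (CommRingCat.of (TrivSqZeroExt k k))).presheaf.stalk (proj x (jz x z)) :=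
  (Spec (CommRingCat.of (TrivSqZeroExt k k))).presheaf.germ ⊤ _ trivial
    ((Scheme.ΓSpecIso (CommRingCat.of (TrivSqZeroExt k k))).inv (TrivSqZeroExt.inr (1 : k)))

theorem stalkMap_tt : ((proj x).stalkMap (jz x z)).hom (tt x z) = ee x (1 : k) (jz x z) :=
  Scheme.Hom.germ_stalkMap_apply (proj x) ⊤ (jz x z) trivial _

theorem tt_sq : tt x z * tt x z = 0 := by
  rw [tt, ← map_mul, ← map_mul, TrivSqZeroExt.inr_mul_inr, map_zero, map_zero]

theorem ann_tt (a : (Spec (CommRingCat.of (TrivSqZeroExt k k))).presheaf.stalk (proj x (jz x z)))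
    (ha : a * tt x z = 0) : ∃ b, a = b * tt x z := by
  let R := TrivSqZeroExt k k
  let p : PrimeSpectrum R := proj x (jz x z)
  have hu : p.asIdeal.primeCompl ≤ IsUnit.submonoid R := fun r hr => by
    by_contra h0
    have h1 : r.fst = 0 := by
      by_contra h2
      exact h0 (TrivSqZeroExt.isUnit_iff_isUnit_fst.2 (isUnit_iff_ne_zero.2 h2))
    have h3 : r * r = 0 := by
      refine TrivSqZeroExt.ext ?_ ?_
      · rw [TrivSqZeroExt.fst_mul, h1, mul_zero]; rfl
      · rw [TrivSqZeroExt.snd_mul, h1, MulOpposite.op_zero, zero_smul, zero_smul, add_zero]; rfl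
    exact hr ((p.2.mem_or_mem (show r * r ∈ p.asIdeal by rw [h3]; exact zero_mem _)).elim id id)
  let e : R ≃ₐ[R] (Spec.structureSheaf R).presheaf.stalk p :=
    IsLocalization.atUnits R p.asIdeal.primeCompl (by exact hu)
  have he : ∀ r, e r = (Spec (CommRingCat.of R)).presheaf.germ ⊤ p trivial
      ((Scheme.ΓSpecIso (CommRingCat.of R)).inv r) := fun r => (e.commutes r).trans rfl
  obtain ⟨r, rfl⟩ : ∃ r, e r = a := ⟨e.symm a, e.apply_symm_apply a⟩
  have h1 : e (r * TrivSqZeroExt.inr (1 : k)) = 0 := by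
    rw [map_mul]
    refine Eq.trans ?_ ha
    exact congrArg (e r * ·) (he _)
  have h2 : r * TrivSqZeroExt.inr (1 : k) = 0 := e.injective (h1.trans (map_zero e).symm)
  have h3 : r.fst = 0 := by
    have h4 := congrArg TrivSqZeroExt.snd h2
    rw [TrivSqZeroExt.snd_mul, show (TrivSqZeroExt.inr (1 : k) : R).fst = 0 from TrivSqZeroExt.fst_inr k 1,
      show (TrivSqZeroExt.inr (1 : k) : R).snd = 1 from TrivSqZeroExt.snd_inr k 1] at h4
    simp at h4
    exact h4
  refine ⟨e (TrivSqZeroExt.inl r.snd), ?_⟩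
  have h5 : r = TrivSqZeroExt.inl r.snd * TrivSqZeroExt.inr (1 : k) := by
    rw [TrivSqZeroExt.inl_mul_inr, smul_eq_mul, mul_one]
    exact TrivSqZeroExt.ext (h3.trans (TrivSqZeroExt.fst_inr k _).symm) rfl
  refine (congrArg e h5).trans ((map_mul e _ _).trans ?_)
  exact congrArg (e (TrivSqZeroExt.inl r.snd) * ·) (he _)

theorem exists_eq_ee_smul {M : (PicF.XT x (TWk (k := k) k)).Modules} (hM : FlatMod.IsFlatOver (proj x) M)
    {m : M.presheaf.stalk (jz x z)} (hm : ee x (1 : k) (jz x z) • m = 0) :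
    ∃ m', m = ee x (1 : k) (jz x z) • m' := by
  letI := FlatMod.moduleStalkOver (proj x) M (jz x z)
  haveI : Module.Flat _ (M.presheaf.stalk (jz x z)) := hM (jz x z)
  have e : ∀ m : M.presheaf.stalk (jz x z), tt x z • m = ee x (1 : k) (jz x z) • m := fun m => by
    show ((proj x).stalkMap (jz x z)).hom (tt x z) • m = _
    rw [stalkMap_tt]
  obtain ⟨m', hm'⟩ := exists_eq_smul_of_smul_eq_zero (tt_sq x z) (ann_tt x z) ((e m).trans hm)
  exact ⟨m', hm'.trans (e m')⟩

theorem eq_zero_of_iota_mul_ee (d : X.presheaf.stalk y)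
    (hd : iota x (TWk k) (jz x z) y (fst_jz x z y h) d * ee x (1 : k) (jz x z) = 0) : d = 0 := by
  haveI : Flat x := by
    haveI : Subsingleton ↥(Spec (CommRingCat.of k)) := inferInstanceAs (Subsingleton (PrimeSpectrum k))
    haveI : IsIntegral (Spec (CommRingCat.of k)) := inferInstance
    infer_instance
  haveI : Flat (proj x) := inferInstanceAs (Flat (pullback.snd x (TWk (k := k) k).hom))
  letI := ((proj x).stalkMap (jz x z)).hom.toAlgebra
  haveI : Module.Flat ((Spec (CommRingCat.of (TrivSqZeroExt k k))).presheaf.stalk (proj x (jz x z)))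
      ((PicF.XT x (TWk (k := k) k)).presheaf.stalk (jz x z)) := Flat.stalkMap (proj x) (jz x z)
  obtain ⟨m', hm'⟩ := exists_eq_smul_of_smul_eq_zero (tt_sq x z) (ann_tt x z)
    (m := iota x (TWk k) (jz x z) y (fst_jz x z y h) d) (by
      rw [Algebra.smul_def, RingHom.algebraMap_toAlgebra, stalkMap_tt, mul_comm, hd])
  rw [Algebra.smul_def, RingHom.algebraMap_toAlgebra, stalkMap_tt] at hm'
  refine (bijective_iota_P x z y h).1 ?_
  rw [← stalkMap_iota x (ptW k) z y h d, hm', map_mul, stalkMap_ptW_ee, zero_mul, map_zero]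

end Flat

theorem exists_iota_decomp (c : (PicF.XT x (TWk (k := k) k)).presheaf.stalk (jz x z)) :
    ∃ c₀ d, c = iota x (TWk k) (jz x z) y (fst_jz x z y h) c₀ +
      iota x (TWk k) (jz x z) y (fst_jz x z y h) d * ee x (1 : k) (jz x z) := by
  let ι := iota x (TWk k) (jz x z) y (fst_jz x z y h)
  let e := ee x (1 : k) (jz x z)
  have hspan : Ideal.span (Set.range fun v : k => ee x v (jz x z)) ≤ Ideal.span {e} := by
    refine Ideal.span_le.2 ?_
    rintro _ ⟨v, rfl⟩
    show ee x v (jz x z) ∈ _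
    rw [show v = v • (1 : k) by rw [smul_eq_mul, mul_one], ee_smul x (jz x z) y (fst_jz x z y h) v (1 : k)]
    exact Ideal.mul_mem_left _ _ (Ideal.mem_span_singleton_self _)
  obtain ⟨c₀, hc₀⟩ := exists_iota_add x z y h c
  obtain ⟨r, hr⟩ := Ideal.mem_span_singleton'.1 (hspan hc₀)
  obtain ⟨d, hd⟩ := exists_iota_add x z y h r
  obtain ⟨s, hs⟩ := Ideal.mem_span_singleton'.1 (hspan hd)
  refine ⟨c₀, d, ?_⟩
  have he : e * e = 0 := ee_mul x _ _ _
  linear_combination -hr - e * hs + s * he

theorem sec_eq_zero {a b : H.presheaf.stalk y} (hs : sec x H z y h a b = 0) : a = 0 ∧ b = 0 := by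
  have ha : a = 0 := by
    refine (bijective_theta_P x H z y h).1 ?_
    rw [← eta_sec x H z y h a b, hs, map_zero, map_zero]
  refine ⟨ha, ?_⟩
  subst ha
  rw [sec, map_zero, zero_add] at hs
  let ι := iota x (TWk k) (jz x z) y (fst_jz x z y h)
  let e := ee x (1 : k) (jz x z)
  have huniq : ∀ c₀ d c₁ d', ι c₀ + ι d * e = ι c₁ + ι d' * e → d = d' := by
    intro c₀ d c₁ d' hh
    have h0 : c₀ = c₁ := by
      have h1 := congrArg ((PicF.XTmap x (ptW k)).stalkMap z).hom hh
      simp only [map_add, map_mul, ι, e, stalkMap_ptW_ee, mul_zero, add_zero,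
        stalkMap_iota x (ptW k) z y h] at h1
      exact (bijective_iota_P x z y h).1 h1
    subst h0
    rw [← sub_eq_zero]
    refine eq_zero_of_iota_mul_ee x z y h _ ?_
    rw [map_sub, sub_mul, sub_eq_zero]
    exact add_left_cancel hh
  have hdec := exists_iota_decomp x z y h
  choose c₀ d hcd using hdec
  have hd : ∀ c c₁ d', c = ι c₁ + ι d' * e → d c = d' := fun c c₁ d' hc => huniq _ _ _ _ ((hcd c).symm.trans hc)
  have hd1 : d e = 1 := hd e 0 1 (by simp [e, ι])
  have hdadd : ∀ c c', d (c + c') = d c + d c' := fun c c' =>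
    hd _ (c₀ c + c₀ c') _ (by rw [map_add, map_add]; linear_combination hcd c + hcd c')
  have hdmul : ∀ r c, d (ι r * c) = r * d c := fun r c =>
    hd _ (r * c₀ c) _ (by rw [map_mul, map_mul]; linear_combination (ι r) * hcd c)
  have key : ∀ (y : X) (hh : pullback.fst x (TWk (k := k) k).hom (jz x z) = y) (b : H.presheaf.stalk y)
      (d : (PicF.XT x (TWk (k := k) k)).presheaf.stalk (jz x z) → X.presheaf.stalk y)
      (_ : ∀ c c', d (c + c') = d c + d c') (_ : ∀ r c, d (iota x (TWk k) (jz x z) y hh r * c) = r * d c)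
      (_ : d (ee x (1 : k) (jz x z)) = 1),
      ee x (1 : k) (jz x z) • theta x H (TWk k) (jz x z) y hh b = 0 → b = 0 := by
    intro y hh b d hdadd hdmul hd1 hs
    subst hh
    let p := pullback.fst x (TWk (k := k) k).hom
    rw [theta_rfl] at hs
    obtain ⟨e', he, heq⟩ := exists_bijective_uS p H (jz x z)
    letI := (p.stalkMap (jz x z)).hom.toAlgebra
    let σ : (PicF.XT x (TWk (k := k) k)).presheaf.stalk (jz x z) →ₗ[X.presheaf.stalk (p (jz x z))]
        X.presheaf.stalk (p (jz x z)) :=
      { toFun := d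
        map_add' := hdadd
        map_smul' := fun r c => by
          rw [Algebra.smul_def, RingHom.algebraMap_toAlgebra, ← iota_rfl]
          exact hdmul r c }
    have h1 : (ee x (1 : k) (jz x z)) ⊗ₜ[X.presheaf.stalk (p (jz x z))] b = 0 := by
      refine he.1 ?_
      rw [map_zero]
      refine Eq.trans ?_ hs
      rw [← heq b, ← map_smul]
      refine congrArg e' ?_
      show _ = (ee x (1 : k) (jz x z)) • ((1 : (PicF.XT x (TWk (k := k) k)).presheaf.stalk (jz x z))
        ⊗ₜ[X.presheaf.stalk (p (jz x z))] b)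
      rw [TensorProduct.smul_tmul', smul_eq_mul, mul_one]
    have h2 := congrArg (fun w => TensorProduct.lid _ _ (σ.rTensor (H.presheaf.stalk (p (jz x z))) w)) h1
    simp only [LinearMap.rTensor_tmul, map_zero, TensorProduct.lid_tmul] at h2
    rwa [show σ (ee x (1 : k) (jz x z)) = 1 from hd1, one_smul] at h2
  exact key y (fst_jz x z y h) b d hdadd hdmul hd1 hs

end GrothLib.QuotTan26
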