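import Groth.Agent.Lib.QuotTan26.Linear
import Groth.Agent.Lib.PicTan26.Tangent
import Mathlib.RingTheory.Ideal.Cotangent

/-!
# The tangent space of the Quot scheme
-/

set_option autoImplicit false
set_option backward.isDefEq.respectTransparency false
universe u

noncomputable section

open CategoryTheory CategoryTheory.Limits AlgebraicGeometry Opposite IsLocalRing
open GrothLib.LocalHilb26 (ptStalk stalkAlgebra stalkRes stalkHom fromSpecStalk_comp specMap_fromSpecStalk_injective)
open GrothLib.PicTan26 (foOfLinear isFirstOrder_foOfLinear exists_foOfLinear foOfLinear_injective IsFirstOrder)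

namespace GrothLib.QuotTan26

variable {k : Type u} [Field k] {Q : Over (Spec (CommRingCat.of k))} (g : P (k := k) ⟶ Q)
  {W : Type u} [AddCommGroup W] [Module k W] [Module kᵐᵒᵖ W] [IsCentralScalar k W]

theorem g_over : g.left ≫ Q.hom = 𝟙 _ := Over.w g

/-- The first order point of a linear map on the cotangent space. -/
def pointL (l : letI := stalkAlgebra Q.hom g.left; CotangentSpace (ptStalk g.left) →ₗ[k] W) : TWk W ⟶ Q :=
  letI := stalkAlgebra Q.hom g.left
  Over.homMk (Spec.map (CommRingCat.ofHom (foOfLinear (K := k) (stalkRes Q.hom g.left (g_over g)) l)) ≫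
      Q.left.fromSpecStalk _) (by
    rw [Category.assoc, fromSpecStalk_comp, ← Spec.map_comp]
    exact congrArg Spec.map (CommRingCat.hom_ext (RingHom.ext fun c =>
      (isFirstOrder_foOfLinear (K := k) (stalkRes Q.hom g.left (g_over g)) l).base c)))

theorem ptW_pointL (l : letI := stalkAlgebra Q.hom g.left; CotangentSpace (ptStalk g.left) →ₗ[k] W) :
    ptW W ≫ pointL g l = g := by
  letI := stalkAlgebra Q.hom g.left
  apply Over.OverMorphism.ext
  show Spec.map (CommRingCat.ofHom (TrivSqZeroExt.fstHom k k W).toRingHom) ≫ Spec.map _ ≫ Q.left.fromSpecStalk _ =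
    g.left
  rw [← Category.assoc, ← Spec.map_comp]
  refine Eq.trans ?_ (Scheme.Spec_stalkClosedPointTo_fromSpecStalk g.left)
  refine congrArg (fun m => Spec.map m ≫ Q.left.fromSpecStalk _) (CommRingCat.hom_ext (RingHom.ext fun a => ?_))
  exact (isFirstOrder_foOfLinear (K := k) (stalkRes Q.hom g.left (g_over g)) l).point a

theorem dmap_pointL {W' : Type u} [AddCommGroup W'] [Module k W'] [Module kᵐᵒᵖ W'] [IsCentralScalar k W']
    (l : letI := stalkAlgebra Q.hom g.left; CotangentSpace (ptStalk g.left) →ₗ[k] W) (m : W →ₗ[k] W') :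
    PicTan26.dmap (k := k) k m ≫ pointL g l =
      pointL g (letI := stalkAlgebra Q.hom g.left; m.comp l) := by
  letI := stalkAlgebra Q.hom g.left
  apply Over.OverMorphism.ext
  show Spec.map (CommRingCat.ofHom (TrivSqZeroExt.map m).toRingHom) ≫ Spec.map _ ≫ Q.left.fromSpecStalk _ =
    Spec.map _ ≫ Q.left.fromSpecStalk _
  rw [← Category.assoc, ← Spec.map_comp]
  refine congrArg (fun q => Spec.map q ≫ Q.left.fromSpecStalk _) (CommRingCat.hom_ext (RingHom.ext fun a => ?_))
  exact TrivSqZeroExt.ext (TrivSqZeroExt.fst_map m _) (TrivSqZeroExt.snd_map m _)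

theorem pointL_injective : Function.Injective (pointL (W := W) g) := by
  letI := stalkAlgebra Q.hom g.left
  haveI := PicTan26.isLocalRing_tsze (K := k) W
  let res := stalkRes Q.hom g.left (g_over g)
  have hloc : ∀ l : CotangentSpace (ptStalk g.left) →ₗ[k] W,
      IsLocalHom (CommRingCat.ofHom (foOfLinear (K := k) res l)).hom := fun l => ⟨fun a ha => by
    have h1 : IsUnit ((foOfLinear (K := k) res l a).fst) := TrivSqZeroExt.isUnit_iff_isUnit_fst.1 ha
    rw [(isFirstOrder_foOfLinear (K := k) res l).point] at h1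
    exact isUnit_of_map_unit (Scheme.stalkClosedPointTo g.left).hom a (isUnit_of_map_unit (algebraMap k k) _ h1)⟩
  intro l l' e
  haveI := hloc l
  haveI := hloc l'
  exact foOfLinear_injective res (congrArg CommRingCat.Hom.hom
    (specMap_fromSpecStalk_injective (congrArg CommaMorphism.left e)))

theorem exists_pointL (g' : TWk W ⟶ Q) (h : ptW W ≫ g' = g) : ∃ l, pointL g l = g' := by
  letI := stalkAlgebra Q.hom g.left
  have hg' : PicTan26.IsPointAt (K := k) (W := W) Q.hom g.left g'.left := by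
    refine ⟨Over.w g', ?_⟩
    refine (congrArg CommaMorphism.left h).trans ?_
    rw [show CommRingCat.ofHom (algebraMap k k) = 𝟙 (CommRingCat.of k) from rfl, Spec.map_id]
    exact (Category.id_comp _).symm
  obtain ⟨ψ, hψ, hψg⟩ := PicTan26.exists_firstOrder Q.hom g.left (g_over g) hg'
  obtain ⟨l, rfl⟩ := exists_foOfLinear (stalkRes Q.hom g.left (g_over g)) hψ
  exact ⟨l, Over.OverMorphism.ext hψg⟩

variable {X : Scheme.{u}} (x : X ⟶ Spec (CommRingCat.of k))

local instance : (PicF.XT x (P (k := k))).Over (Spec (CommRingCat.of k)) := ⟨PicF.XTproj x P⟩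

/-- The tangent space of a representing scheme of Quot. -/
theorem finrank_cotangent_quot [LocallyOfFiniteType x] (H : X.Modules) (hH : Coh.IsCoh H) (Ku : FGA.QuotSet x H Q)
    (hQ : FGA.QuotRepresentedBy x H Q Ku) (K₀ : FGA.QuotSet x H (P (k := k)))
    (hg : FGA.quotPull x H g Ku.1 = K₀.1) :
    Module.finrank (ResidueField (Q.left.presheaf.stalk (g.left (closedPoint k))))
        (CotangentSpace (Q.left.presheaf.stalk (g.left (closedPoint k)))) =
      Module.finrank k (Subobject.underlying.obj K₀.1 ⟶ cokernel K₀.1.arrow) := by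
  letI := stalkAlgebra Q.hom g.left
  haveI : IsLocallyNoetherian Q.left := hQ.1
  haveI : IsLocallyNoetherian (TWk (k := k) k).left :=
    haveI : IsNoetherianRing (CommRingCat.of (TrivSqZeroExt k k)) :=
      inferInstanceAs (IsNoetherianRing (DualNumber k))
    inferInstanceAs (IsLocallyNoetherian (Spec (CommRingCat.of (TrivSqZeroExt k k))))
  haveI : IsLocallyNoetherian (P (k := k)).left :=
    inferInstanceAs (IsLocallyNoetherian (Spec (CommRingCat.of k)))
  haveI : IsLocallyNoetherian X := LocallyOfFiniteType.isLocallyNoetherian x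
  haveI : IsLocallyNoetherian (PicF.XT x (P (k := k))) :=
    LocallyOfFiniteType.isLocallyNoetherian (pullback.fst x (P (k := k)).hom)
  have hK₀ : Coh.IsCoh (Subobject.underlying.obj K₀.1) :=
    QCoh.isCoh_of_iso ((Abelian.monoIsKernelOfCokernel _ (cokernelIsCokernel K₀.1.arrow)).conePointUniqueUpToIso
      (kernelIsKernel (cokernel.π K₀.1.arrow))).symm
      (QCoh.isCoh_kernel _ (ModDesc.isCoh_pullback _ _ hH) K₀.2.1)
  let res := stalkRes Q.hom g.left (g_over g)
  let A : Type u := (ptStalk g.left : Type u)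
  have hres : ∀ {W : Type u} [AddCommGroup W] [Module k W] [Module kᵐᵒᵖ W] [IsCentralScalar k W]
      (l : CotangentSpace A →ₗ[k] W), FGA.quotPull x H (ptW W) (FGA.quotPull x H (pointL g l) Ku.1) = K₀.1 := by
    intro W _ _ _ _ l
    rw [quotPull_comp, ptW_pointL, hg]
  have hrel : ∀ l : CotangentSpace A →ₗ[k] k, ∃ φ, Rel x H K₀.1 φ (FGA.quotPull x H (pointL g l) Ku.1) :=
    fun l => exists_rel x H K₀.1 (hres l) (isFlatOver_quotPull x H (pointL g l) Ku.1 Ku.2)
  choose Φ hΦ using hrel
  have hdmap : ∀ {W : Type u} [AddCommGroup W] [Module k W] [Module kᵐᵒᵖ W] [IsCentralScalar k W]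
      (l : CotangentSpace A →ₗ[k] W) (m : W →ₗ[k] k),
      Rel x H K₀.1 (Φ (m.comp l)) (FGA.quotPull x H (PicTan26.dmap (k := k) k m) (FGA.quotPull x H (pointL g l) Ku.1)) := by
    intro W _ _ _ _ l m
    rw [quotPull_comp, dmap_pointL]
    exact hΦ _
  let Ψ : (CotangentSpace A →ₗ[k] k) →ₗ[k] (Subobject.underlying.obj K₀.1 ⟶ cokernel K₀.1.arrow) :=
    { toFun := Φ
      map_add' := fun l l' => by
        have h := rel_add x H K₀.1 (hres (l.prod l')) (LinearMap.fst k k k) (LinearMap.snd k k k)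
          (hdmap (l.prod l') _) (hdmap (l.prod l') _) (hdmap (l.prod l') _)
        refine Eq.trans (congrArg Φ ?_) (h.trans (congrArg₂ (· + ·) (congrArg Φ ?_) (congrArg Φ ?_)))
        all_goals exact LinearMap.ext fun v => rfl
      map_smul' := fun c l => by
        have h := rel_smul x H K₀.1 (hres l) c (LinearMap.id : k →ₗ[k] k) (hdmap l _) (hdmap l _)
        exact h.trans rfl }
  have hbij : Function.Bijective Ψ := by
    refine ⟨fun l l' e => pointL_injective g ?_, fun φ => ?_⟩
    · change Φ l = Φ l' at e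
      have hK : FGA.quotPull x H (pointL g l) Ku.1 = FGA.quotPull x H (pointL g l') Ku.1 := by
        have h1 := hΦ l
        rw [e] at h1
        exact eq_of_rel x H K₀.1 h1 (hΦ l')
      obtain ⟨a, -, hu⟩ := hQ.2 (TWk k) ⟨_, mem_quotSet_quotPull x H (pointL g l) Ku.1 Ku.2⟩
      exact (hu _ rfl).trans (hu _ hK.symm).symm
    · obtain ⟨g', hg', -⟩ := hQ.2 (TWk k) ⟨ofHom x H K₀.1 φ,
        isCoh_ofHom x H K₀.1 φ hH hK₀ K₀.2.1, isFlatOver_ofHom x H K₀.1 φ⟩
      have hpt : ptW k ≫ g' = g := by
        obtain ⟨a, -, hu⟩ := hQ.2 P K₀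
        refine (hu _ ?_).trans (hu _ hg).symm
        show FGA.quotPull x H (ptW k ≫ g') Ku.1 = K₀.1
        rw [← quotPull_comp, hg']
        exact quotPull_ofHom x H K₀.1 φ
      obtain ⟨l, rfl⟩ := exists_pointL g g' hpt
      refine ⟨l, hom_eq_of_stalk fun z t => ?_⟩
      show QCoh.stalkLin (Φ l) z t = _
      obtain ⟨a, ha⟩ := (bijective_theta_P x H z (bp x z) rfl).2 (QCoh.stalkLin K₀.1.arrow z t)
      obtain ⟨b, hb⟩ := exists_cond x H K₀.1 φ z a ⟨t, ha.symm⟩
      have h1 : Cond x H K₀.1 (Φ l) z a b :=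
        (hΦ l z a b).1 (show _ ∈ sK (FGA.quotPull x H (pointL g l) Ku.1) _ by
          rw [show FGA.quotPull x H (pointL g l) Ku.1 = ofHom x H K₀.1 φ from hg']
          exact (rel_ofHom x H K₀.1 φ z a b).2 hb)
      obtain ⟨t₁, ht₁, h1⟩ := h1
      obtain ⟨t₂, ht₂, h2⟩ := hb
      rw [QCoh.stalkLin_injective K₀.1.arrow z (ht₁.trans ha)] at h1
      rw [QCoh.stalkLin_injective K₀.1.arrow z (ht₂.trans ha)] at h2
      exact add_right_cancel (h1.trans h2.symm)
  refine (GrothLib.LocalHilb26.finrank_residueField_cotangent res).trans ?_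
  rw [← Subspace.dual_finrank_eq]
  exact (LinearEquiv.ofBijective Ψ hbij).finrank_eq

end GrothLib.QuotTan26
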