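import Groth.Agent.Lib.QuotTan26.Induction
import Groth.Agent.Lib.LocalHilb26.Completion
import Groth.Agent.Lib.ArtFun.RingPresent

/-!
# Unobstructed points of the Quot scheme
-/

set_option autoImplicit false
set_option backward.isDefEq.respectTransparency false
universe u

noncomputable section

open CategoryTheory CategoryTheory.Limits AlgebraicGeometry IsLocalRing
open ArtFun
open GrothLib.LocalHilb26 (ptStalk stalkAlgebra stalkRes pointOf pointOf_π pointOf_res pointOf_map pointOf_injective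
  exists_pointOf_eq exists_local_completion)

namespace GrothLib.QuotTan26

variable {k : Type u} [Field k] {X : Scheme.{u}} (x : X ⟶ Spec (CommRingCat.of k))

theorem specOver_base : Art.specOver (Art.base k k) = 𝟙 _ := by
  show Spec.map _ = _
  exact (congrArg Spec.map (CommRingCat.hom_ext rfl)).trans (Spec.map_id _)

theorem isRegularLocalRing_quot [LocallyOfFiniteType x] (H : X.Modules) (hH : Coh.IsCoh H)
    (σ : Spec (CommRingCat.of k) ⟶ Spec (CommRingCat.of k)) (hσ : σ = Art.specOver (Art.base k k))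
    {Q : Over (Spec (CommRingCat.of k))} (Ku : FGA.QuotSet x H Q) (hQ : FGA.QuotRepresentedBy x H Q Ku)
    (K₀ : FGA.QuotSet x H (Over.mk σ)) (g : Over.mk σ ⟶ Q) (hg : FGA.quotPull x H g Ku.1 = K₀.1)
    [HasExt.{u} (PicF.XT x (Over.mk σ)).Modules]
    (hExt : Subsingleton (Abelian.Ext.{u} (Subobject.underlying.obj K₀.1) (cokernel K₀.1.arrow) 1)) :
    IsRegularLocalRing (Q.left.presheaf.stalk (g.left (closedPoint k))) := by
  subst hσ
  haveI := hH.1
  haveI : IsLocallyNoetherian Q.left := hQ.1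
  have hpt : g.left ≫ Q.hom = 𝟙 _ := (Over.w g).trans specOver_base
  letI := stalkAlgebra Q.hom g.left
  let res := stalkRes Q.hom g.left hpt
  have hsm : ∀ ⦃B A : Art k k⦄ (μ : B ⟶ A), Function.Surjective μ → ∀ φ₀ : HomSet _ res A,
      ∃ ψ₀ : HomSet _ res B, HomSet.map μ ψ₀ = φ₀ := by
    intro B A μ hμ φ₀
    haveI := isLocallyNoetherian_XT x A
    haveI := isLocallyNoetherian_XT x B
    haveI : IsLocallyNoetherian (TA A).left := by
      haveI : IsNoetherianRing (CommRingCat.of A.carrier) := inferInstanceAs (IsNoetherianRing A.carrier)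
      exact inferInstanceAs (IsLocallyNoetherian (Spec (CommRingCat.of A.carrier)))
    haveI : IsLocallyNoetherian (TA B).left := by
      haveI : IsNoetherianRing (CommRingCat.of B.carrier) := inferInstanceAs (IsNoetherianRing B.carrier)
      exact inferInstanceAs (IsLocallyNoetherian (Spec (CommRingCat.of B.carrier)))
    let gA : TA A ⟶ Q := Over.homMk (pointOf Q.hom g.left φ₀) (pointOf_π Q.hom g.left φ₀)
    let K : FGA.QuotSet x H (TA A) := ⟨_, mem_quotSet_quotPull x H gA Ku.1 Ku.2⟩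
    have hgA : gmap (Art.toBase A) ≫ gA = g := Over.OverMorphism.ext (pointOf_res Q.hom g.left φ₀)
    have hK : K0 x H K.1 = K₀.1 := by
      show FGA.quotPull x H _ (FGA.quotPull x H gA Ku.1) = _
      rw [quotPull_comp, hgA, hg]
    obtain ⟨K', hK'⟩ := exists_lift x H hH μ hμ K (by rw [hK]; exact hExt)
    obtain ⟨gB, hgB, -⟩ := hQ.2 (TA B) K'
    have hBA : gmap μ ≫ gB = gA := (hQ.2 (TA A) K).unique
      (by rw [← quotPull_comp, hgB, hK']) rfl
    have hB0 : Art.specRes B ≫ gB.left = g.left := by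
      have e : gmap (Art.toBase B) ≫ gB = g := by rw [← gmap_toBase μ, Category.assoc, hBA, hgA]
      exact congrArg CommaMorphism.left e
    obtain ⟨ψ₀, hψ₀⟩ := exists_pointOf_eq Q.hom g.left (hpt := hpt) gB.left (Over.w gB) hB0
    refine ⟨ψ₀, pointOf_injective Q.hom g.left ?_⟩
    rw [pointOf_map, hψ₀]
    exact congrArg CommaMorphism.left hBA
  obtain ⟨R, f, hf, -, hreg, -, hU⟩ := exists_local_completion (ptStalk g.left) res
    fun c => ⟨algebraMap k _ c, res.commutes c⟩
  refine hreg.1 ?_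
  have hR : IsSmoothFunctor (hR R.carrier R.res) := by
    intro B A μ hμ (φ : HomSet R.carrier R.res A)
    obtain ⟨ψ₀, hψ₀⟩ := hsm μ hμ ⟨φ.1.comp f, by rw [← AlgHom.comp_assoc, φ.2, hf]⟩
    obtain ⟨ψ, hψ, -⟩ := hU ψ₀.1 ψ₀.2
    refine ⟨ψ, ?_⟩
    refine (hU (φ.1.comp f) (by rw [← AlgHom.comp_assoc, φ.2, hf])).unique ?_ rfl
    show (μ.toAlgHom.comp ψ.1).comp f = _
    rw [AlgHom.comp_assoc, hψ]
    exact congrArg Subtype.val hψ₀
  haveI := GrothLib.ArtFun.isAdicComplete_maximalIdeal_field (k := k)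
  obtain ⟨n, ⟨e⟩⟩ := (GrothLib.ArtFun.isSmoothFunctor_iff_powerSeries (fun c => ⟨c, rfl⟩) R).1 hR
  exact IsRegularLocalRing.of_ringEquiv e.symm.toRingEquiv

end GrothLib.QuotTan26
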