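import Groth.Agent.Lib.OX.PullbackTensor
import Groth.Agent.Lib.QCoh.GenericPoint
import Groth.Agent.Lib.QCoh.SupportExact
import Groth.Agent.Lib.Algz56.Sheaves
import Groth.Prelude.Def_FGA

/-!
# Submodules and pullbacks of modules through stalks
-/

set_option autoImplicit false
set_option backward.isDefEq.respectTransparency false
universe u

noncomputable section

open CategoryTheory CategoryTheory.Limits AlgebraicGeometry Opposite TopologicalSpace
open GrothLib.QCoh (stalkLin stalkLin_comp stalkLin_germ stalkLin_injective)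
open scoped TensorProduct

namespace GrothLib.QuotTan26

variable {X Y : Scheme.{u}}

section Sub

variable {M N : X.Modules}

theorem stalkLin_surjective (f : M ⟶ N) [Epi f] (x : X) : Function.Surjective (stalkLin f x) :=
  (ModuleCat.epi_iff_surjective _).1 ((OX.stalk x).map_epi f)

theorem hom_eq_of_stalk {f g : M ⟶ N} (h : ∀ x (e : M.presheaf.stalk x), stalkLin f x e = stalkLin g x e) :
    f = g := by
  rw [← sub_eq_zero, OX.eq_zero_iff]
  intro x
  rw [Functor.map_sub, sub_eq_zero]
  exact ModuleCat.hom_ext (LinearMap.ext (h x))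

/-- The stalk of a submodule, inside the stalk. -/
def sK (K : Subobject M) (x : X) : Submodule (X.presheaf.stalk x) (M.presheaf.stalk x) :=
  LinearMap.range (stalkLin K.arrow x)

theorem sK_imageSubobject {L : X.Modules} (f : L ⟶ M) (x : X) :
    sK (imageSubobject f) x = LinearMap.range (stalkLin f x) := by
  refine le_antisymm ?_ ?_
  · rintro _ ⟨e, rfl⟩
    obtain ⟨l, rfl⟩ := stalkLin_surjective (factorThruImageSubobject f) x e
    exact ⟨l, by rw [← stalkLin_comp, imageSubobject_arrow_comp]⟩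
  · rintro _ ⟨l, rfl⟩
    exact ⟨stalkLin (factorThruImageSubobject f) x l, by rw [← stalkLin_comp, imageSubobject_arrow_comp]⟩

theorem stalkLin_π_eq_zero_iff (K : Subobject M) (x : X) (m : M.presheaf.stalk x) :
    stalkLin (cokernel.π K.arrow) x m = 0 ↔ m ∈ sK K x := by
  refine ⟨fun h => ?_, ?_⟩
  · have hS : (ShortComplex.mk K.arrow (cokernel.π K.arrow) (cokernel.condition _)).Exact :=
      ShortComplex.exact_cokernel _
    obtain ⟨e, he⟩ := (ShortComplex.moduleCat_exact_iff _).1 (hS.map (OX.stalk x)) m h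
    exact ⟨e, he⟩
  · rintro ⟨e, rfl⟩
    rw [← stalkLin_comp, cokernel.condition]
    exact LinearMap.congr_fun (congrArg ModuleCat.Hom.hom ((OX.stalk x).map_zero _ _)) e

theorem le_of_sK_le {K L : Subobject M} (h : ∀ x, sK K x ≤ sK L x) : K ≤ L := by
  have e : K.arrow ≫ cokernel.π L.arrow = 0 := by
    refine hom_eq_of_stalk fun x e => ?_
    rw [stalkLin_comp, (stalkLin_π_eq_zero_iff L x _).2 (h x ⟨e, rfl⟩)]
    exact (LinearMap.congr_fun (congrArg ModuleCat.Hom.hom ((OX.stalk x).map_zero _ _)) e).symm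
  exact Subobject.le_of_comm (Abelian.monoLift L.arrow K.arrow e) (Abelian.monoLift_comp _ _ _)

theorem eq_of_sK_eq {K L : Subobject M} (h : ∀ x, sK K x = sK L x) : K = L :=
  le_antisymm (le_of_sK_le fun x => (h x).le) (le_of_sK_le fun x => (h x).ge)

end Sub

section Pull

variable (f : X ⟶ Y) (M : Y.Modules) (x : X)

/-- The image of a stalk element in the stalk of the pullback. -/
def uS : M.presheaf.stalk (f x) →+ ((Scheme.Modules.pullback f).obj M).presheaf.stalk x where
  toFun m := ((OX.pullStalkIso f x).inv.app M).hom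
    ((ModuleCat.extendRestrictScalarsAdj (f.stalkMap x).hom).unit.app ((OX.stalk (f x)).obj M) m)
  map_zero' := by erw [map_zero, map_zero]
  map_add' a b := by erw [map_add, map_add]

theorem uS_smul (r : Y.presheaf.stalk (f x)) (m : M.presheaf.stalk (f x)) :
    uS f M x (r • m) = (f.stalkMap x).hom r • uS f M x m :=
  (congrArg ((OX.pullStalkIso f x).inv.app M).hom (map_smul
    ((ModuleCat.extendRestrictScalarsAdj (f.stalkMap x).hom).unit.app ((OX.stalk (f x)).obj M)).hom r m)).trans
    (map_smul ((OX.pullStalkIso f x).inv.app M).hom ((f.stalkMap x).hom r) _)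

theorem uS_germ {U : Y.Opens} (hx : f x ∈ U) (m : Γ(M, U)) :
    uS f M x (M.presheaf.germ U (f x) hx m) =
      ((Scheme.Modules.pullback f).obj M).presheaf.germ (f ⁻¹ᵁ U) x hx (OX.pullSec f M U m) := by
  refine Eq.trans (congrArg ((OX.pullStalkIso f x).inv.app M).hom (OX.pullStalkIso_germ f x M U hx m).symm) ?_
  exact ConcreteCategory.congr_hom ((OX.pullStalkIso f x).hom_inv_id_app M) _

theorem uS_natural {N : Y.Modules} (a : M ⟶ N) (m : M.presheaf.stalk (f x)) :
    stalkLin ((Scheme.Modules.pullback f).map a) x (uS f M x m) = uS f N x (stalkLin a (f x) m) := by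
  obtain ⟨U, hx, m, rfl⟩ := TopCat.Presheaf.exists_germ_eq M.presheaf m
  rw [uS_germ, stalkLin_germ, stalkLin_germ, uS_germ]
  exact congrArg _ (OX.pullSec_natural f a U m).symm

theorem exists_bijective_uS :
    ∃ e : ((ModuleCat.extendScalars (f.stalkMap x).hom).obj ((OX.stalk (f x)).obj M)) →ₗ[X.presheaf.stalk x]
        ((Scheme.Modules.pullback f).obj M).presheaf.stalk x,
      Function.Bijective e ∧ ∀ m, e ((ModuleCat.extendRestrictScalarsAdj (f.stalkMap x).hom).unit.app
        ((OX.stalk (f x)).obj M) m) = uS f M x m :=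
  ⟨((OX.pullStalkIso f x).inv.app M).hom,
    (ConcreteCategory.isIso_iff_bijective ((OX.pullStalkIso f x).inv.app M)).1 inferInstance, fun _ => rfl⟩

theorem span_range_uS : Submodule.span (X.presheaf.stalk x) (Set.range (uS f M x)) = ⊤ := by
  obtain ⟨e, he, heq⟩ := exists_bijective_uS f M x
  refine eq_top_iff.2 fun v hv => ?_
  clear hv
  obtain ⟨t, rfl⟩ := he.2 v
  letI := (f.stalkMap x).hom.toAlgebra
  induction t using TensorProduct.induction_on with
  | zero => erw [map_zero]; exact zero_mem _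
  | tmul b n =>
    have hb : (b ⊗ₜ[Y.presheaf.stalk (f x)] n : X.presheaf.stalk x ⊗[Y.presheaf.stalk (f x)] M.presheaf.stalk (f x)) =
        (show X.presheaf.stalk x from b) • ((1 : X.presheaf.stalk x) ⊗ₜ[Y.presheaf.stalk (f x)] n) := by
      rw [TensorProduct.smul_tmul', smul_eq_mul, mul_one]
    refine (congrArg e hb).symm ▸ ?_
    erw [map_smul]
    refine Submodule.smul_mem _ _ (Submodule.subset_span ⟨n, ?_⟩)
    exact (heq n).symm
  | add a b ha hb => erw [map_add]; exact add_mem ha hb

end Pull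

theorem pullbackCongr_pullSec {f g : X ⟶ Y} (h : f = g) (M : Y.Modules) (U : Y.Opens) (x : X) (hx : f x ∈ U)
    (hx' : g x ∈ U) (m : Γ(M, U)) :
    stalkLin ((Scheme.Modules.pullbackCongr h).hom.app M) x (uS f M x (M.presheaf.germ U (f x) hx m)) =
      uS g M x (M.presheaf.germ U (g x) hx' m) := by
  subst h
  have e : (Scheme.Modules.pullbackCongr (rfl : f = f)).hom.app M = 𝟙 _ := by
    simp [Scheme.Modules.pullbackCongr]
  rw [e]
  exact LinearMap.congr_fun (congrArg ModuleCat.Hom.hom ((OX.stalk x).map_id _)) _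

theorem pullbackComp_pullSec {Z : Scheme.{u}} (f : X ⟶ Y) (g : Y ⟶ Z) (M : Z.Modules) (U : Z.Opens) (x : X)
    (hx : g (f x) ∈ U) (m : Γ(M, U)) :
    stalkLin ((Scheme.Modules.pullbackComp f g).hom.app M) x
      (uS f ((Scheme.Modules.pullback g).obj M) x (uS g M (f x) (M.presheaf.germ U (g (f x)) hx m))) =
      uS (f ≫ g) M x (M.presheaf.germ U ((f ≫ g) x) hx m) := by
  rw [uS_germ]
  erw [uS_germ f ((Scheme.Modules.pullback g).obj M) x (U := g ⁻¹ᵁ U)]
  rw [uS_germ]
  refine (stalkLin_germ ((Scheme.Modules.pullbackComp f g).hom.app M) (U := f ⁻¹ᵁ (g ⁻¹ᵁ U)) hx _).trans ?_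
  exact congrArg _ (congrArg (fun φ : M ⟶ (Scheme.Modules.pushforward (f ≫ g)).obj
    ((Scheme.Modules.pullback (f ≫ g)).obj M) => φ.app U m) (Algz56.unit_pullbackComp f g M))

end GrothLib.QuotTan26
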