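import Groth.Agent.Lib.QuotTan26.Stalk
import Groth.Agent.Lib.PicTan26.Setup
import Groth.Agent.Lib.DeformIso.Basic
import Groth.Agent.Lib.UnitsThick26.FlatIdeal

/-!
# Stalks of pulled back modules on first order thickenings
-/

set_option autoImplicit false
set_option backward.isDefEq.respectTransparency false
universe u

noncomputable section

open CategoryTheory CategoryTheory.Limits AlgebraicGeometry Opposite TopologicalSpace
open GrothLib.QCoh (stalkLin stalkLin_comp stalkLin_germ)
open scoped TensorProduct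

namespace GrothLib.QuotTan26

/-- Successive pullback of stalk elements. -/
theorem uS_comp_congr {A B C : Scheme.{u}} (u : A ⟶ B) (a : B ⟶ C) (b : A ⟶ C) (h : u ≫ a = b) (M : C.Modules)
    (U : C.Opens) (z : A) (hy : a (u z) ∈ U) (hy' : b z ∈ U) (m : Γ(M, U)) :
    stalkLin ((Scheme.Modules.pullbackComp u a).app M ≪≫ (Scheme.Modules.pullbackCongr h).app M).hom z
      (uS u ((Scheme.Modules.pullback a).obj M) z (uS a M (u z) (M.presheaf.germ U (a (u z)) hy m))) =
      uS b M z (M.presheaf.germ U (b z) hy' m) := by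
  rw [Iso.trans_hom, stalkLin_comp]
  refine (congrArg (stalkLin _ z) (pullbackComp_pullSec u a M U z hy m)).trans ?_
  exact pullbackCongr_pullSec h M U z _ _ m

section General

variable {X S : Scheme.{u}} (f : X ⟶ S) (E : X.Modules) (T : Over S)

/-- The inclusion of functions of the base. -/
def iota (z : PicF.XT f T) (y : X) (h : pullback.fst f T.hom z = y) :
    X.presheaf.stalk y →+* (PicF.XT f T).presheaf.stalk z :=
  ((X.presheaf.stalkCongr (Inseparable.of_eq h.symm)).hom ≫ (pullback.fst f T.hom).stalkMap z).hom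

/-- The pullback of stalk elements of the base. -/
def theta (z : PicF.XT f T) (y : X) (h : pullback.fst f T.hom z = y) :
    E.presheaf.stalk y →+ (FGA.ET f E T).presheaf.stalk z :=
  (uS (pullback.fst f T.hom) E z).comp (E.presheaf.stalkCongr (Inseparable.of_eq h.symm)).hom.hom

theorem iota_germ (z : PicF.XT f T) (y : X) (h : pullback.fst f T.hom z = y) (U : X.Opens) (hy : y ∈ U)
    (r : Γ(X, U)) : iota f T z y h (X.presheaf.germ U y hy r) =
      (PicF.XT f T).presheaf.germ (pullback.fst f T.hom ⁻¹ᵁ U) z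
        (show pullback.fst f T.hom z ∈ U by rw [h]; exact hy) ((pullback.fst f T.hom).app U r) := by
  subst h
  show (pullback.fst f T.hom).stalkMap z ((X.presheaf.stalkCongr (Inseparable.of_eq rfl)).hom _) = _
  rw [TopCat.Presheaf.stalkCongr_hom, TopCat.Presheaf.germ_stalkSpecializes_apply]
  exact Scheme.Hom.germ_stalkMap_apply (pullback.fst f T.hom) U z hy r

theorem theta_germ (z : PicF.XT f T) (y : X) (h : pullback.fst f T.hom z = y) (U : X.Opens) (hy : y ∈ U)
    (m : Γ(E, U)) : theta f E T z y h (E.presheaf.germ U y hy m) =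
      uS (pullback.fst f T.hom) E z (E.presheaf.germ U _ (show pullback.fst f T.hom z ∈ U by rw [h]; exact hy) m) := by
  subst h
  show uS _ E z ((E.presheaf.stalkCongr (Inseparable.of_eq rfl)).hom _) = _
  rw [TopCat.Presheaf.stalkCongr_hom, TopCat.Presheaf.germ_stalkSpecializes_apply]

theorem theta_smul (z : PicF.XT f T) (y : X) (h : pullback.fst f T.hom z = y) (r : X.presheaf.stalk y)
    (m : E.presheaf.stalk y) : theta f E T z y h (r • m) = iota f T z y h r • theta f E T z y h m := by
  obtain ⟨U, hy, r, rfl⟩ := TopCat.Presheaf.exists_germ_eq X.presheaf r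
  obtain ⟨V, hy', m, rfl⟩ := TopCat.Presheaf.exists_germ_eq E.presheaf m
  subst h
  let t : E.presheaf.stalk (pullback.fst f T.hom z) := E.presheaf.germ V _ hy' m
  have e1 : ∀ t : E.presheaf.stalk (pullback.fst f T.hom z),
      theta f E T z _ rfl t = uS (pullback.fst f T.hom) E z t := by
    intro t
    obtain ⟨W, hW, t, rfl⟩ := TopCat.Presheaf.exists_germ_eq E.presheaf t
    exact theta_germ f E T z _ rfl W hW t
  rw [e1, e1, uS_smul, iota_germ]
  congr 1
  exact Scheme.Hom.germ_stalkMap_apply (pullback.fst f T.hom) U z hy r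

theorem exists_theta_span (z : PicF.XT f T) (y : X) (h : pullback.fst f T.hom z = y) :
    Submodule.span ((PicF.XT f T).presheaf.stalk z) (Set.range (theta f E T z y h)) = ⊤ := by
  subst h
  refine eq_top_iff.2 ((span_range_uS (pullback.fst f T.hom) E z).ge.trans (Submodule.span_mono ?_))
  rintro _ ⟨t, rfl⟩
  obtain ⟨W, hW, t, rfl⟩ := TopCat.Presheaf.exists_germ_eq E.presheaf t
  exact ⟨_, theta_germ f E T z _ rfl W hW t⟩

variable {T} {T' : Over S} (g : T' ⟶ T)

/-- The stalk map of `E_T ⟶ E_{T'}`. -/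
def eta (z : PicF.XT f T') :
    (FGA.ET f E T).presheaf.stalk (PicF.XTmap f g z) →+ (FGA.ET f E T').presheaf.stalk z :=
  (stalkLin (FGA.ETiso f E g).hom z).toAddMonoidHom.comp (uS (PicF.XTmap f g) (FGA.ET f E T) z)

theorem eta_smul (z : PicF.XT f T') (c : (PicF.XT f T).presheaf.stalk (PicF.XTmap f g z))
    (s : (FGA.ET f E T).presheaf.stalk (PicF.XTmap f g z)) :
    eta f E g z (c • s) = ((PicF.XTmap f g).stalkMap z).hom c • eta f E g z s := by
  show stalkLin _ z (uS _ _ z (c • s)) = _ • stalkLin _ z (uS _ _ z s)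
  rw [uS_smul, map_smul]

theorem fst_XTmap (z : PicF.XT f T') :
    pullback.fst f T.hom (PicF.XTmap f g z) = pullback.fst f T'.hom z := by
  rw [← Scheme.Hom.comp_apply, FGA.XTmap_fst]

theorem eta_theta (z : PicF.XT f T') (y : X) (h' : pullback.fst f T'.hom z = y) (m : E.presheaf.stalk y) :
    eta f E g z (theta f E T (PicF.XTmap f g z) y ((fst_XTmap f g z).trans h') m) = theta f E T' z y h' m := by
  obtain ⟨U, hy, m, rfl⟩ := TopCat.Presheaf.exists_germ_eq E.presheaf m
  rw [theta_germ, theta_germ]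
  exact uS_comp_congr (PicF.XTmap f g) (pullback.fst f T.hom) (pullback.fst f T'.hom) (FGA.XTmap_fst f g) E U z _ _ m

theorem stalkMap_iota (z : PicF.XT f T') (y : X) (h' : pullback.fst f T'.hom z = y) (r : X.presheaf.stalk y) :
    ((PicF.XTmap f g).stalkMap z).hom (iota f T (PicF.XTmap f g z) y ((fst_XTmap f g z).trans h') r) =
      iota f T' z y h' r := by
  obtain ⟨U, hy, r, rfl⟩ := TopCat.Presheaf.exists_germ_eq X.presheaf r
  rw [iota_germ, iota_germ, Scheme.Hom.germ_stalkMap_apply]
  have key : ∀ (a : PicF.XT f T' ⟶ X) (_ : a = pullback.fst f T'.hom) (hz : z ∈ a ⁻¹ᵁ U),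
      (PicF.XT f T').presheaf.germ (a ⁻¹ᵁ U) z hz (a.app U r) =
      (PicF.XT f T').presheaf.germ (pullback.fst f T'.hom ⁻¹ᵁ U) z (show pullback.fst f T'.hom z ∈ U by rw [h']; exact hy)
        ((pullback.fst f T'.hom).app U r) := by
    rintro a rfl _
    rfl
  exact key _ (FGA.XTmap_fst f g) _

theorem span_range_eta (z : PicF.XT f T') :
    Submodule.span ((PicF.XT f T').presheaf.stalk z) (Set.range (eta f E g z)) = ⊤ := by
  have h := congrArg (Submodule.map (stalkLin (FGA.ETiso f E g).hom z)) (span_range_uS (PicF.XTmap f g) (FGA.ET f E T) z)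
  rw [Submodule.map_span, Submodule.map_top] at h
  refine Eq.trans ?_ (h.trans (LinearMap.range_eq_top.2 (stalkLin_surjective (FGA.ETiso f E g).hom z)))
  rw [← Set.range_comp]
  rfl

theorem sK_quotPull (K : Subobject (FGA.ET f E T)) (z : PicF.XT f T') :
    sK (FGA.quotPull f E g K) z =
      Submodule.span ((PicF.XT f T').presheaf.stalk z) (eta f E g z '' sK K (PicF.XTmap f g z)) := by
  rw [FGA.quotPull, sK_imageSubobject]
  refine le_antisymm ?_ (Submodule.span_le.2 ?_)
  · rintro _ ⟨t, rfl⟩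
    have ht : t ∈ Submodule.span ((PicF.XT f T').presheaf.stalk z) (Set.range (uS (PicF.XTmap f g) _ z)) :=
      (span_range_uS (PicF.XTmap f g) (Subobject.underlying.obj K) z).ge trivial
    induction ht using Submodule.span_induction with
    | mem t ht =>
      obtain ⟨e, rfl⟩ := ht
      refine Submodule.subset_span ⟨stalkLin K.arrow _ e, ⟨e, rfl⟩, ?_⟩
      rw [stalkLin_comp, uS_natural]
      rfl
    | zero => rw [map_zero]; exact zero_mem _
    | add a b _ _ ha hb => rw [map_add]; exact add_mem ha hb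
    | smul c a _ ha => rw [map_smul]; exact Submodule.smul_mem _ c ha
  · rintro _ ⟨_, ⟨e, rfl⟩, rfl⟩
    refine ⟨uS (PicF.XTmap f g) _ z e, ?_⟩
    rw [stalkLin_comp, uS_natural]
    rfl

end General

section Thick

variable {k : Type u} [Field k] {X : Scheme.{u}} (x : X ⟶ Spec (CommRingCat.of k))

/-- The base point. -/
abbrev P : Over (Spec (CommRingCat.of k)) := Over.mk (𝟙 (Spec (CommRingCat.of k)))

variable (W : Type u) [AddCommGroup W] [Module k W] [Module kᵐᵒᵖ W] [IsCentralScalar k W]

/-- The first order neighbourhood. -/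
abbrev TWk : Over (Spec (CommRingCat.of k)) := PicTan26.TW (k := k) k W

/-- The point of the neighbourhood. -/
def ptW : P (k := k) ⟶ TWk W :=
  Over.homMk (Spec.map (CommRingCat.ofHom (TrivSqZeroExt.fstHom k k W).toRingHom)) (by
    show Spec.map _ ≫ Spec.map _ = 𝟙 _
    rw [← Spec.map_comp, ← Spec.map_id]
    rfl)

theorem ptW_dmap {W' : Type u} [AddCommGroup W'] [Module k W'] [Module kᵐᵒᵖ W'] [IsCentralScalar k W']
    (l : W →ₗ[k] W') : ptW W' ≫ PicTan26.dmap (k := k) k l = ptW W := by
  apply Over.OverMorphism.ext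
  show Spec.map _ ≫ Spec.map _ = Spec.map _
  rw [← Spec.map_comp]
  exact congrArg Spec.map (CommRingCat.hom_ext (RingHom.ext fun c => TrivSqZeroExt.fst_map l c))

variable {W}

/-- The germ of the square-zero function of a vector. -/
def ee (v : W) (z : PicF.XT x (TWk W)) : (PicF.XT x (TWk W)).presheaf.stalk z :=
  (PicF.XT x (TWk W)).presheaf.germ ⊤ z trivial (PicTan26.eps x k v)

theorem ee_mul (v w : W) (z : PicF.XT x (TWk W)) : ee x v z * ee x w z = 0 := by
  rw [ee, ee, ← map_mul]
  refine Eq.trans (congrArg _ ?_) (map_zero _)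
  show Coh.toGlobal _ (TrivSqZeroExt.inr v) * Coh.toGlobal _ (TrivSqZeroExt.inr w) = (0 : Coh.Γtop _)
  rw [← map_mul, TrivSqZeroExt.inr_mul_inr, map_zero]

theorem ee_add (v w : W) (z : PicF.XT x (TWk W)) : ee x (v + w) z = ee x v z + ee x w z := by
  rw [ee, ee, ee, ← map_add]
  refine congrArg _ ?_
  show Coh.toGlobal _ _ = (Coh.toGlobal _ _ + Coh.toGlobal _ _ : Coh.Γtop _)
  rw [← map_add, ← TrivSqZeroExt.inr_add]

theorem stalkMap_ee {W' : Type u} [AddCommGroup W'] [Module k W'] [Module kᵐᵒᵖ W'] [IsCentralScalar k W']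
    (l : W →ₗ[k] W') (v : W) (z : PicF.XT x (TWk W')) :
    ((PicF.XTmap x (PicTan26.dmap (k := k) k l)).stalkMap z).hom (ee x v _) = ee x (l v) z := by
  rw [ee, Scheme.Hom.germ_stalkMap_apply]
  exact congrArg _ (PicTan26.pull_eps x k l v)

theorem isPullback_ptW : IsPullback (PicF.XTmap x (ptW W)) (PicF.XTproj x P) (PicF.XTproj x (TWk W))
    (ptW W).left :=
  PicSep26.isPullback_XTmap x (ptW W)

theorem stalkMap_ptW_ee (v : W) (z : PicF.XT x P) :
    ((PicF.XTmap x (ptW W)).stalkMap z).hom (ee x v _) = 0 := by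
  rw [ee, Scheme.Hom.germ_stalkMap_apply]
  refine Eq.trans (congrArg _ ?_) (map_zero _)
  refine (PicTan26.appTop_toGlobal _ (PicF.XTproj x (P (k := k)) : _ ⟶ Spec (CommRingCat.of k))
    (TrivSqZeroExt.fstHom k k W).toRingHom _ (isPullback_ptW x).w _).trans ?_
  refine Eq.trans (congrArg (fun r => (show Γ(PicF.XT x (P (k := k)), ⊤) from
    Coh.toGlobal (PicF.XTproj x (P (k := k)) : _ ⟶ Spec (CommRingCat.of k)) r))
    (show (TrivSqZeroExt.fstHom k k W).toRingHom (TrivSqZeroExt.inr v) = 0 from TrivSqZeroExt.fst_inr k v)) ?_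
  exact map_zero _

instance isIso_fst_P : IsIso (pullback.fst x (P (k := k)).hom) :=
  inferInstanceAs (IsIso (pullback.fst x (𝟙 (Spec (CommRingCat.of k)))))

theorem bijective_iota_P (z : PicF.XT x P) (y : X) (h : pullback.fst x P.hom z = y) :
    Function.Bijective (iota x P z y h) := by
  subst h
  exact ConcreteCategory.bijective_of_isIso
    ((X.presheaf.stalkCongr (Inseparable.of_eq rfl)).hom ≫ (pullback.fst x (P (k := k)).hom).stalkMap z)

theorem ker_stalkMap_ptW (z : PicF.XT x P) :
    RingHom.ker ((PicF.XTmap x (ptW W)).stalkMap z).hom = Ideal.span (Set.range fun v : W => ee x v _) := by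
  let R := TrivSqZeroExt k W
  let φ : R →+* k := (TrivSqZeroExt.fstHom k k W).toRingHom
  haveI : IsClosedImmersion (Spec.map (CommRingCat.ofHom φ)) :=
    IsClosedImmersion.spec_of_surjective _ fun a => ⟨TrivSqZeroExt.inl a, TrivSqZeroExt.fst_inl W a⟩
  refine le_antisymm ?_ (Ideal.span_le.2 ?_)
  · have h := DeformIso.ker_stalkMap_of_isPullback (i := PicF.XTmap x (ptW W))
      (iS := Spec.map (CommRingCat.ofHom φ)) (F := (PicF.XTproj x (TWk W) : _ ⟶ Spec (CommRingCat.of R)))
      (f := (PicF.XTproj x P : _ ⟶ Spec (CommRingCat.of k))) (isPullback_ptW x) z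
      ⟨⊤, isAffineOpen_top _⟩ trivial
    rw [h, Ideal.map_map, Ideal.map_le_iff_le_comap]
    intro r hr
    rw [Scheme.Hom.ker_apply, RingHom.mem_ker] at hr
    obtain ⟨ρ, rfl⟩ : ∃ ρ : R, (Scheme.ΓSpecIso (CommRingCat.of R)).inv ρ = r :=
      ⟨(Scheme.ΓSpecIso (CommRingCat.of R)).hom r,
        ConcreteCategory.congr_hom (Scheme.ΓSpecIso (CommRingCat.of R)).hom_inv_id r⟩
    have h0 : φ ρ = 0 := by
      have e := ConcreteCategory.congr_hom (Scheme.ΓSpecIso_inv_naturality (CommRingCat.ofHom φ)) ρ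
      have e2 : (Scheme.ΓSpecIso (CommRingCat.of k)).inv (φ ρ) = 0 := e.trans hr
      have e3 := congrArg (Scheme.ΓSpecIso (CommRingCat.of k)).hom e2
      rw [map_zero] at e3
      exact (ConcreteCategory.congr_hom (Scheme.ΓSpecIso (CommRingCat.of k)).inv_hom_id _).symm.trans e3
    have hρ : ρ = TrivSqZeroExt.inr ρ.snd := TrivSqZeroExt.ext h0 rfl
    refine Ideal.subset_span ⟨ρ.snd, ?_⟩
    refine Eq.trans ?_ (Scheme.Hom.germ_stalkMap_apply (PicF.XTproj x (TWk W) : _ ⟶ Spec (CommRingCat.of R)) ⊤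
      (PicF.XTmap x (ptW W) z) trivial ((Scheme.ΓSpecIso (CommRingCat.of R)).inv ρ)).symm
    show (PicF.XT x (TWk W)).presheaf.germ ⊤ _ trivial (PicTan26.eps x k ρ.snd) = _
    refine congrArg _ ?_
    show Coh.toGlobal _ (TrivSqZeroExt.inr ρ.snd) = _
    rw [← hρ]
    rfl
  · rintro _ ⟨v, rfl⟩
    exact stalkMap_ptW_ee x v z

/-- Every function near the closed fibre is a function of the base plus square-zero terms. -/
theorem exists_iota_add (z : PicF.XT x P) (y : X) (h : pullback.fst x P.hom z = y)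
    (c : (PicF.XT x (TWk W)).presheaf.stalk (PicF.XTmap x (ptW W) z)) :
    ∃ c₀, c - iota x (TWk W) _ y ((fst_XTmap x (ptW W) z).trans h) c₀ ∈
      Ideal.span (Set.range fun v : W => ee x v (PicF.XTmap x (ptW W) z)) := by
  obtain ⟨c₀, hc₀⟩ := (bijective_iota_P x z y h).2 (((PicF.XTmap x (ptW W)).stalkMap z).hom c)
  refine ⟨c₀, ?_⟩
  rw [← ker_stalkMap_ptW, RingHom.mem_ker, map_sub, sub_eq_zero, stalkMap_iota x (ptW W) z y h]
  exact hc₀.symm

variable (H : X.Modules)

/-- The additive span of square-zero terms. -/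
def eps2 (z : PicF.XT x P) (y : X) (h : pullback.fst x P.hom z = y) :
    AddSubgroup ((FGA.ET x H (TWk W)).presheaf.stalk (PicF.XTmap x (ptW W) z)) :=
  AddSubgroup.closure (Set.range fun p : W × H.presheaf.stalk y =>
    ee x p.1 (PicF.XTmap x (ptW W) z) • theta x H (TWk W) _ y ((fst_XTmap x (ptW W) z).trans h) p.2)

/-- Every stalk element is a stalk element of the base plus square-zero terms. -/
theorem exists_theta_add (z : PicF.XT x P) (y : X) (h : pullback.fst x P.hom z = y)
    (s : (FGA.ET x H (TWk W)).presheaf.stalk (PicF.XTmap x (ptW W) z)) :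
    ∃ a, s - theta x H (TWk W) _ y ((fst_XTmap x (ptW W) z).trans h) a ∈ eps2 x H z y h := by
  let z' := PicF.XTmap x (ptW W) z
  let θ := theta x H (TWk W) z' y ((fst_XTmap x (ptW W) z).trans h)
  let ι := iota x (TWk W) z' y ((fst_XTmap x (ptW W) z).trans h)
  have hι : ∀ r m, ι r • θ m = θ (r • m) := fun r m => (theta_smul x H (TWk W) z' y _ r m).symm
  have hgen : ∀ (c : (PicF.XT x (TWk W)).presheaf.stalk z') (v : W) (m : H.presheaf.stalk y),
      c • ee x v z' • θ m ∈ eps2 x H z y h := by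
    intro c v m
    obtain ⟨c₀, hc₀⟩ := exists_iota_add x z y h c
    have h0 : ∀ d ∈ Ideal.span (Set.range fun w : W => ee x w z'), d * ee x v z' = 0 := by
      intro d hd
      induction hd using Submodule.span_induction with
      | mem _ hd => obtain ⟨w, rfl⟩ := hd; exact ee_mul x w v z'
      | zero => rw [zero_mul]
      | add a b _ _ ha hb => rw [add_mul, ha, hb, add_zero]
      | smul r a _ ha => rw [smul_eq_mul, mul_assoc, ha, mul_zero]
    have e : c * ee x v z' = ee x v z' * ι c₀ := by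
      have := h0 _ hc₀
      rw [sub_mul, sub_eq_zero] at this
      rw [this, mul_comm]
    rw [← mul_smul, e, mul_smul, hι]
    exact AddSubgroup.subset_closure ⟨(v, c₀ • m), rfl⟩
  have hs : s ∈ Submodule.span ((PicF.XT x (TWk W)).presheaf.stalk z') (Set.range θ) :=
    (exists_theta_span x H (TWk W) z' y _).ge trivial
  induction hs using Submodule.span_induction with
  | mem t ht =>
    obtain ⟨a, rfl⟩ := ht
    exact ⟨a, by rw [sub_self]; exact zero_mem _⟩
  | zero => exact ⟨0, by rw [map_zero, sub_zero]; exact zero_mem _⟩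
  | add s t _ _ hs ht =>
    obtain ⟨a, ha⟩ := hs
    obtain ⟨b, hb⟩ := ht
    exact ⟨a + b, by rw [map_add, add_sub_add_comm]; exact add_mem ha hb⟩
  | smul c s _ hs =>
    obtain ⟨a, ha⟩ := hs
    obtain ⟨c₀, hc₀⟩ := exists_iota_add x z y h c
    refine ⟨c₀ • a, ?_⟩
    have h1 : c • (s - θ a) ∈ eps2 x H z y h := by
      generalize s - θ a = t at ha
      induction ha using AddSubgroup.closure_induction with
      | mem _ ht => obtain ⟨⟨v, m⟩, rfl⟩ := ht; exact hgen c v m
      | zero => rw [smul_zero]; exact zero_mem _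
      | add p q _ _ hp hq => rw [smul_add]; exact add_mem hp hq
      | neg p _ hp => rw [smul_neg]; exact neg_mem hp
    have h2 : ∀ d ∈ Ideal.span (Set.range fun w : W => ee x w z'), d • θ a ∈ eps2 x H z y h := by
      intro d hd
      obtain ⟨l, rfl⟩ := (Finsupp.mem_span_range_iff_exists_finsupp).1 hd
      rw [Finsupp.sum, Finset.sum_smul]
      refine sum_mem fun v _ => ?_
      rw [smul_eq_mul, mul_smul]
      exact hgen _ v a
    have h3 := add_mem h1 (h2 _ hc₀)
    rw [smul_sub, sub_smul, hι] at h3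
    convert h3 using 1
    abel

end Thick

end GrothLib.QuotTan26
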