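import Groth.Agent.Lib.QuotTan26.Dual
import Groth.Agent.Lib.MonoidUnits.Open
import Groth.Agent.Lib.LocalHilb26.DualAlg

/-!
# Transport of stalk elements and flatness over the dual numbers
-/

set_option autoImplicit false
set_option backward.isDefEq.respectTransparency false
universe u

noncomputable section

open CategoryTheory CategoryTheory.Limits AlgebraicGeometry Opposite TopologicalSpace
open GrothLib.QCoh (stalkLin stalkLin_comp stalkLin_germ)

namespace GrothLib.QuotTan26

section

variable {A B : Scheme.{u}} (f : A ⟶ B) (M : B.Modules)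

/-- Pullback of stalk elements at a point given up to equality. -/
def uT (z : A) (w : B) (hw : f z = w) : M.presheaf.stalk w →+ ((Scheme.Modules.pullback f).obj M).presheaf.stalk z :=
  (uS f M z).comp (M.presheaf.stalkCongr (Inseparable.of_eq hw.symm)).hom.hom

theorem uT_rfl (z : A) (t : M.presheaf.stalk (f z)) : uT f M z (f z) rfl t = uS f M z t := by
  obtain ⟨U, hx, t, rfl⟩ := TopCat.Presheaf.exists_germ_eq M.presheaf t
  show uS f M z ((M.presheaf.stalkCongr (Inseparable.of_eq rfl)).hom _) = _
  rw [TopCat.Presheaf.stalkCongr_hom, TopCat.Presheaf.germ_stalkSpecializes_apply]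

theorem uT_germ (z : A) (w : B) (hw : f z = w) (U : B.Opens) (hwU : w ∈ U) (m : Γ(M, U)) :
    uT f M z w hw (M.presheaf.germ U w hwU m) = ((Scheme.Modules.pullback f).obj M).presheaf.germ (f ⁻¹ᵁ U) z
      (show f z ∈ U by rw [hw]; exact hwU) (OX.pullSec f M U m) := by
  subst hw
  rw [uT_rfl, uS_germ]

theorem uT_natural {N : B.Modules} (a : M ⟶ N) (z : A) (w : B) (hw : f z = w) (t : M.presheaf.stalk w) :
    stalkLin ((Scheme.Modules.pullback f).map a) z (uT f M z w hw t) = uT f N z w hw (stalkLin a w t) := by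
  subst hw
  rw [uT_rfl, uT_rfl, uS_natural]

end

section

variable {X S : Scheme.{u}} (f : X ⟶ S) (E : X.Modules) {T T' : Over S} (g : T' ⟶ T)

/-- `eta` at a point given up to equality. -/
def etaT (z : PicF.XT f T') (w : PicF.XT f T) (hw : PicF.XTmap f g z = w) :
    (FGA.ET f E T).presheaf.stalk w →+ (FGA.ET f E T').presheaf.stalk z :=
  (stalkLin (FGA.ETiso f E g).hom z).toAddMonoidHom.comp (uT (PicF.XTmap f g) (FGA.ET f E T) z w hw)

theorem etaT_rfl (z : PicF.XT f T') (t : (FGA.ET f E T).presheaf.stalk (PicF.XTmap f g z)) :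
    etaT f E g z _ rfl t = eta f E g z t := by
  show stalkLin _ z (uT _ _ z _ rfl t) = stalkLin _ z (uS _ _ z t)
  rw [uT_rfl]

theorem fst_of_eq (z : PicF.XT f T') (w : PicF.XT f T) (hw : PicF.XTmap f g z = w) :
    pullback.fst f T.hom w = pullback.fst f T'.hom z := by
  rw [← hw]; exact fst_XTmap f g z

theorem etaT_theta (z : PicF.XT f T') (w : PicF.XT f T) (hw : PicF.XTmap f g z = w) (y : X)
    (h' : pullback.fst f T'.hom z = y) (m : E.presheaf.stalk y) :
    etaT f E g z w hw (theta f E T w y ((fst_of_eq f g z w hw).trans h') m) = theta f E T' z y h' m := by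
  subst hw
  rw [etaT_rfl]
  exact eta_theta f E g z y h' m

theorem etaT_mem_quotPull (K : Subobject (FGA.ET f E T)) (z : PicF.XT f T') (w : PicF.XT f T)
    (hw : PicF.XTmap f g z = w) (s : (FGA.ET f E T).presheaf.stalk w) (hs : s ∈ sK K w) :
    etaT f E g z w hw s ∈ sK (FGA.quotPull f E g K) z := by
  subst hw
  rw [etaT_rfl, sK_quotPull]
  exact Submodule.subset_span ⟨s, hs, rfl⟩

end

section

variable {k : Type u} [Field k] {X : Scheme.{u}} (x : X ⟶ Spec (CommRingCat.of k)) (H : X.Modules)
  {W W' : Type u} [AddCommGroup W] [Module k W] [Module kᵐᵒᵖ W] [IsCentralScalar k W]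
  [AddCommGroup W'] [Module k W'] [Module kᵐᵒᵖ W'] [IsCentralScalar k W']

theorem etaT_ee_smul (l : W →ₗ[k] W') (v : W) (z : PicF.XT x (TWk W')) (w : PicF.XT x (TWk W))
    (hw : PicF.XTmap x (PicTan26.dmap (k := k) k l) z = w) (s : (FGA.ET x H (TWk W)).presheaf.stalk w) :
    etaT x H (PicTan26.dmap (k := k) k l) z w hw (ee x v w • s) =
      ee x (l v) z • etaT x H (PicTan26.dmap (k := k) k l) z w hw s := by
  subst hw
  rw [etaT_rfl, etaT_rfl, eta_smul, stalkMap_ee]

instance surjective_ptW : Surjective (PicF.XTmap x (ptW W)) := by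
  haveI : Surjective (ptW (k := k) W).left := by
    have h : MoreMor.IsFiniteOrderThickening
        (Spec.map (CommRingCat.ofHom (TrivSqZeroExt.fstHom k k W).toRingHom)) := by
      refine GrothLib.MonoidUnits.isFiniteOrderThickening_specMap _
        (fun a => ⟨TrivSqZeroExt.inl a, TrivSqZeroExt.fst_inl W a⟩) ⟨2, ?_⟩
      rw [pow_two, Ideal.zero_eq_bot, eq_bot_iff, Ideal.mul_le]
      intro a ha b hb
      rw [Ideal.mem_bot]
      have ha' : a.fst = 0 := ha
      have hb' : b.fst = 0 := hb
      refine TrivSqZeroExt.ext ?_ ?_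
      · rw [TrivSqZeroExt.fst_mul, ha', zero_mul]; rfl
      · rw [TrivSqZeroExt.snd_mul, ha', hb', MulOpposite.op_zero, zero_smul, zero_smul, add_zero]; rfl
    exact h.1.2
  exact MorphismProperty.of_isPullback (P := @Surjective) (isPullback_ptW x).flip inferInstance

theorem bijective_germ_stalk (q : (Spec (CommRingCat.of (TrivSqZeroExt k k)) : Scheme.{u})) :
    Function.Bijective fun r : TrivSqZeroExt k k =>
      (Spec (CommRingCat.of (TrivSqZeroExt k k))).presheaf.germ ⊤ q trivial
        ((Scheme.ΓSpecIso (CommRingCat.of (TrivSqZeroExt k k))).inv r) := by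
  let R := TrivSqZeroExt k k
  let p : PrimeSpectrum R := q
  have hu : p.asIdeal.primeCompl ≤ IsUnit.submonoid R := fun r hr => by
    by_contra h0
    have h1 : r.fst = 0 := by
      by_contra h2
      exact h0 (TrivSqZeroExt.isUnit_iff_isUnit_fst.2 (isUnit_iff_ne_zero.2 h2))
    have h3 : r * r = 0 := by
      refine TrivSqZeroExt.ext ?_ ?_
      · rw [TrivSqZeroExt.fst_mul, h1, mul_zero]; rfl
      · rw [TrivSqZeroExt.snd_mul, h1, MulOpposite.op_zero, zero_smul, zero_smul, add_zero]; rfl
    exact hr ((p.2.mem_or_mem (show r * r ∈ p.asIdeal by rw [h3]; exact zero_mem _)).elim id id)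
  let e : R ≃ₐ[R] (Spec.structureSheaf R).presheaf.stalk p :=
    IsLocalization.atUnits R p.asIdeal.primeCompl (by exact hu)
  exact (congrArg Function.Bijective (funext fun r => (e.commutes r).trans rfl)).mp e.bijective

/-- Flatness along a bijective map of rings. -/
theorem flat_of_bijective {R O M : Type u} [CommRing R] [CommRing O] [AddCommGroup M] [Module R M] [Module O M]
    (ψ : R →+* O) (hψ : Function.Bijective ψ) (hsmul : ∀ (r : R) (m : M), r • m = ψ r • m) (h : Module.Flat R M) :
    Module.Flat O M := by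
  let e : R ≃+* O := RingEquiv.ofBijective ψ hψ
  letI : Algebra O R := e.symm.toRingHom.toAlgebra
  haveI : IsScalarTower O R M := IsScalarTower.of_algebraMap_smul fun o m => by
    rw [hsmul]
    exact congrArg (· • m) (e.apply_symm_apply o)
  haveI : Module.Flat O R := Module.Flat.of_linearEquiv
    { e with
      map_smul' := fun o r => by
        show e (e.symm o * r) = o * e r
        rw [map_mul, e.apply_symm_apply] }
  exact Module.Flat.trans O R M

/-- Flatness over the dual numbers, on stalks. -/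
theorem isFlatOver_of_ee {M : (PicF.XT x (TWk (k := k) k)).Modules}
    (hM : ∀ (z : PicF.XT x P) (m : M.presheaf.stalk (jz x z)), ee x (1 : k) (jz x z) • m = 0 →
      ∃ m', m = ee x (1 : k) (jz x z) • m') :
    FlatMod.IsFlatOver (proj x) M := by
  intro z'
  obtain ⟨z, rfl⟩ := (PicF.XTmap x (ptW (k := k) k)).surjective z'
  let R := TrivSqZeroExt k k
  letI := FlatMod.moduleStalkOver (proj x) M (jz x z)
  let ψ : R →+* (Spec (CommRingCat.of R)).presheaf.stalk (proj x (jz x z)) :=
    ((Spec (CommRingCat.of R)).presheaf.germ ⊤ (proj x (jz x z)) trivial).hom.comp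
      (Scheme.ΓSpecIso (CommRingCat.of R)).inv.hom
  letI : Module (DualNumber k) (M.presheaf.stalk (jz x z)) := Module.compHom _ ψ
  have e : ∀ m : M.presheaf.stalk (jz x z),
      (DualNumber.eps : DualNumber k) • m = ee x (1 : k) (jz x z) • m := fun m => by
    show ((proj x).stalkMap (jz x z)).hom (tt x z) • m = _
    rw [stalkMap_tt]
  refine flat_of_bijective (R := DualNumber k) ψ (bijective_germ_stalk (proj x (jz x z))) (fun _ _ => rfl)
    (GrothLib.LocalHilb26.flat_of_eps (k := k) fun m hm => ?_)
  obtain ⟨m', hm'⟩ := hM z m ((e m).symm.trans hm)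
  exact ⟨m', hm'.trans (e m').symm⟩

end

end GrothLib.QuotTan26
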